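import Groth.Agent.CurvSt.K760.Iface2
import Mathlib.RingTheory.Trace.Basic
import Mathlib.RingTheory.Nilpotent.Basic
import Mathlib.LinearAlgebra.Trace
import Mathlib.LinearAlgebra.Matrix.NonsingularInverse

/-!
# The discriminant of a finite free algebra and the nilradical of its reduction (`K760.Hurw.DiscNilStmt`)
-/

set_option autoImplicit false

universe u

open Polynomial IsLocalRing

namespace K90.Hurw

section

variable {V : Type u} [CommRing V] {ϖ : V} {κ : Type u} [Field κ] {ρ : V →+* κ} (hρ : Function.Surjective ρ)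
  (hker : RingHom.ker ρ = Ideal.span {ϖ})
  {M : Type u} [CommRing M] [Algebra V M]
  {M₀ : Type u} [CommRing M₀] [Algebra κ M₀] {π : M →+* M₀} (hπ : Function.Surjective π)
  (hc : ∀ a : V, π (algebraMap V M a) = algebraMap κ M₀ (ρ a))
  (hkπ : RingHom.ker π = Ideal.span {algebraMap V M ϖ})

include hc in
theorem pi_smul (a : V) (m : M) : π (a • m) = ρ a • π m := by
  rw [Algebra.smul_def, map_mul, hc, Algebra.smul_def]

include hker in
theorem rho_eq_zero_iff (a : V) : ρ a = 0 ↔ ϖ ∣ a := by
  rw [← RingHom.mem_ker, hker, Ideal.mem_span_singleton]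

include hρ hker hπ hc hkπ in
/-- The reduction of a basis. -/
theorem exists_basis {ι : Type*} [Fintype ι] (b : Module.Basis ι V M) :
    ∃ b₀ : Module.Basis ι κ M₀, ∀ i, b₀ i = π (b i) := by
  have hli : LinearIndependent κ (fun i => π (b i)) := by
    rw [Fintype.linearIndependent_iff]
    intro c h i
    choose v hv using fun i => hρ (c i)
    have h1 : π (∑ i, v i • b i) = 0 := by
      rw [map_sum, ← h]
      exact Finset.sum_congr rfl fun i _ => by rw [pi_smul hc, hv]
    rw [← RingHom.mem_ker, hkπ, Ideal.mem_span_singleton] at h1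
    obtain ⟨m, hm⟩ := h1
    rw [← Algebra.smul_def] at hm
    have h2 : v i = ϖ * b.repr m i := by
      have := congrArg (fun x => b.repr x i) hm
      simp only [map_smul, Finsupp.smul_apply, smul_eq_mul] at this
      rw [← this, b.repr_sum_self]
    rw [← hv i, h2, map_mul, (rho_eq_zero_iff hker ϖ).2 dvd_rfl, zero_mul]
  have hsp : ⊤ ≤ Submodule.span κ (Set.range fun i => π (b i)) := by
    intro y _
    obtain ⟨m, rfl⟩ := hπ y
    rw [← b.sum_repr m, map_sum]
    refine Submodule.sum_mem _ fun i _ => ?_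
    rw [pi_smul hc]
    exact Submodule.smul_mem _ _ (Submodule.subset_span ⟨i, rfl⟩)
  exact ⟨Module.Basis.mk hli hsp, fun i => by simp⟩

include hρ hker hπ hc hkπ in
/-- The trace commutes with the reduction. -/
theorem rho_trace [Module.Finite V M] [Module.Free V M] (m : M) :
    ρ (Algebra.trace V M m) = Algebra.trace κ M₀ (π m) := by
  classical
  let b := Module.Free.chooseBasis V M
  obtain ⟨b₀, hb₀⟩ := exists_basis hρ hker hπ hc hkπ b
  rw [Algebra.trace_eq_matrix_trace b, Algebra.trace_eq_matrix_trace b₀, Matrix.trace, Matrix.trace, map_sum]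
  refine Finset.sum_congr rfl fun i _ => ?_
  rw [Matrix.diag_apply, Matrix.diag_apply, Algebra.leftMulMatrix_eq_repr_mul, Algebra.leftMulMatrix_eq_repr_mul]
  have h1 : π m * b₀ i = ∑ j, ρ (b.repr (m * b i) j) • b₀ j := by
    rw [hb₀, ← map_mul, ← b.sum_repr (m * b i), map_sum]
    refine Finset.sum_congr rfl fun j _ => ?_
    rw [pi_smul hc, hb₀, b.sum_repr]
  rw [h1, b₀.repr_sum_self]

end

theorem pow_card_dvd_det {V : Type*} [CommRing V] {ι : Type*} [Fintype ι] [DecidableEq ι] (A : Matrix ι ι V)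
    (ϖ : V) (s : Finset ι) (h : ∀ i ∈ s, ∀ j, ϖ ∣ A i j) : ϖ ^ s.card ∣ A.det := by
  choose! q hq using h
  let d : ι → V := fun i => if i ∈ s then ϖ else 1
  let A' : Matrix ι ι V := Matrix.of fun i j => if i ∈ s then q i j else A i j
  have h1 : A = Matrix.diagonal d * A' := by
    ext i j
    rw [Matrix.diagonal_mul]
    by_cases hi : i ∈ s
    · simp [d, A', hi, hq i hi j]
    · simp [d, A', hi]
  rw [h1, Matrix.det_mul, Matrix.det_diagonal]
  refine Dvd.dvd.mul_right ?_ _
  rw [Finset.prod_ite, Finset.prod_const, Finset.filter_mem_eq_inter, Finset.univ_inter]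
  exact dvd_mul_right _ _

/-- `K760.Hurw.DiscNilStmt`. -/
theorem discNil : K760.Hurw.DiscNilStmt.{u} := by
  classical
  intro V _ ϖ κ _ ρ hρ hker M _ _ _ _ M₀ _ _ π hπ hc hkπ
  let b := Module.Free.chooseBasis V M
  obtain ⟨b₀, hb₀⟩ := exists_basis hρ hker hπ hc hkπ b
  have : Module.Finite κ M₀ := Module.Finite.of_basis b₀
  let N : Submodule κ M₀ := (nilradical M₀).restrictScalars κ
  obtain ⟨N', hN'⟩ := N.exists_isCompl
  let bN := Module.finBasis κ N
  let bN' := Module.finBasis κ N'
  let b' := (bN.prod bN').map (Submodule.prodEquivOfIsCompl N N' hN')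
  let e := b₀.indexEquiv b'
  let s : Finset (Module.Free.ChooseBasisIndex V M) := Finset.univ.filter fun i => (e i).isLeft
  have hs : s.card = Module.finrank κ (nilradical M₀) := by
    have h1 : s = (Finset.univ : Finset (Fin (Module.finrank κ N))).map
        (Function.Embedding.inl.trans e.symm.toEmbedding) := by
      ext i
      simp only [s, Finset.mem_filter, Finset.mem_univ, true_and, Finset.mem_map, Function.Embedding.trans_apply,
        Equiv.coe_toEmbedding, Function.Embedding.inl_apply]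
      constructor
      · intro h
        obtain ⟨j, hj⟩ := Sum.isLeft_iff.1 h
        exact ⟨j, by rw [← hj, Equiv.symm_apply_apply]⟩
      · rintro ⟨j, rfl⟩
        simp
    rw [h1, Finset.card_map, Finset.card_univ, Fintype.card_fin]
    rfl
  have hnil : ∀ i ∈ s, IsNilpotent (b' (e i)) := by
    intro i hi
    obtain ⟨j, hj⟩ := Sum.isLeft_iff.1 (Finset.mem_filter.1 hi).2
    rw [hj]
    have h2 : b' (Sum.inl j) = (bN j : M₀) := by
      simp [b', Module.Basis.prod_apply]
    rw [h2]
    exact (bN j).2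
  choose m hm using fun i => hπ (b' (e i))
  let t : Matrix _ _ V := b.toMatrix m
  have h1 : Algebra.discr V m = t.det ^ 2 * Algebra.discr V b := by
    rw [← Algebra.discr_of_matrix_vecMul, b.toMatrix_map_vecMul]
  have h2 : ϖ ^ s.card ∣ Algebra.discr V m := by
    rw [Algebra.discr_def]
    refine pow_card_dvd_det _ _ _ fun i hi j => ?_
    rw [← rho_eq_zero_iff hker, Algebra.traceMatrix_apply, Algebra.traceForm_apply,
      rho_trace hρ hker hπ hc hkπ, map_mul, hm i]
    have h3 : IsNilpotent (b' (e i) * π (m j)) := (Commute.all _ _).isNilpotent_mul_right (hnil i hi)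
    exact (Algebra.isNilpotent_trace_of_isNilpotent h3).eq_zero
  have h4 : ρ t.det ≠ 0 := by
    have h5 : ρ.mapMatrix t = b₀.toMatrix (b'.reindex e.symm) := by
      ext i j
      change ρ (b.repr (m j) i) = b₀.repr (b'.reindex e.symm j) i
      rw [Module.Basis.reindex_apply, Equiv.symm_symm, ← hm j]
      conv_rhs => rw [← b.sum_repr (m j), map_sum]
      have h6 : (∑ x, π (b.repr (m j) x • b x)) = ∑ x, ρ (b.repr (m j) x) • b₀ x :=
        Finset.sum_congr rfl fun x _ => by rw [pi_smul hc, hb₀]
      rw [h6, b₀.repr_sum_self]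
    rw [RingHom.map_det, h5]
    have h7 := b₀.toMatrix_mul_toMatrix_flip (b'.reindex e.symm)
    intro h8
    have h9 := congrArg Matrix.det h7
    rw [Matrix.det_mul, h8, zero_mul, Matrix.det_one] at h9
    exact zero_ne_one h9
  obtain ⟨v, hv⟩ := hρ (ρ t.det)⁻¹
  have h5 : ρ (v * t.det - 1) = 0 := by rw [map_sub, map_mul, hv, inv_mul_cancel₀ h4, map_one, sub_self]
  obtain ⟨a, ha⟩ := (rho_eq_zero_iff hker _).1 h5
  have h6 : IsCoprime ϖ (v * t.det) := ⟨-a, 1, by linear_combination ha⟩
  rw [← hs]
  refine (h6.pow (m := s.card) (n := 2)).dvd_of_dvd_mul_left ?_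
  rw [mul_pow, mul_assoc, ← h1]
  exact h2.mul_left _

end K90.Hurw
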