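import Groth.Agent.CurvSt.K760.Iface2
import Mathlib.RingTheory.Valuation.Discrete.IsDiscreteValuationRing
import Mathlib.FieldTheory.IsAlgClosed.Basic

/-!
# Discrete valuation rings with transcendental residue field induce Gauss valuations (`K760.Hurw.GaussStmt`)
-/

set_option autoImplicit false

universe u

open Polynomial IsLocalRing

namespace K90.Hurw

section Clo

variable {K E Γ : Type*} [Field K] [Field E] [Algebra K E] [LinearOrderedCommGroupWithZero Γ] (v : Valuation E Γ)

/-- The closure of `K` in the valued field `E`. -/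
def clo : IntermediateField K E where
  carrier := {z | ∀ e : E, e ≠ 0 → ∃ a : K, v (z - algebraMap K E a) < v e}
  algebraMap_mem' a e he := ⟨a, by rw [sub_self, map_zero]; exact zero_lt_iff.2 ((v.ne_zero_iff).2 he)⟩
  add_mem' := by
    intro z z' hz hz' e he
    obtain ⟨a, ha⟩ := hz e he
    obtain ⟨a', ha'⟩ := hz' e he
    refine ⟨a + a', ?_⟩
    have h : z + z' - algebraMap K E (a + a') = (z - algebraMap K E a) + (z' - algebraMap K E a') := by
      rw [map_add]; ring
    rw [h]
    exact v.map_add_lt ha ha'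
  mul_mem' := by
    intro z z' hz hz' e he
    have key : ∀ y : E, ∃ w : E, w ≠ 0 ∧ ∀ s : E, v s < v w → v (y * s) < v e := by
      intro y
      by_cases hy : y = 0
      · exact ⟨1, one_ne_zero, fun s _ => by rw [hy, zero_mul, map_zero]; exact zero_lt_iff.2 ((v.ne_zero_iff).2 he)⟩
      · refine ⟨e / y, div_ne_zero he hy, fun s hs => ?_⟩
        have h : e = y * (e / y) := by field_simp
        rw [map_mul]
        conv_rhs => rw [h, map_mul]
        exact mul_lt_mul_of_pos_left hs (zero_lt_iff.2 ((v.ne_zero_iff).2 hy))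
    obtain ⟨w', hw', h'⟩ := key z
    obtain ⟨a', ha'⟩ := hz' w' hw'
    obtain ⟨w, hw, h⟩ := key (algebraMap K E a')
    obtain ⟨a, ha⟩ := hz w hw
    refine ⟨a * a', ?_⟩
    have h1 : z * z' - algebraMap K E (a * a') =
        z * (z' - algebraMap K E a') + algebraMap K E a' * (z - algebraMap K E a) := by
      rw [map_mul]; ring
    rw [h1]
    exact v.map_add_lt (h' _ ha') (h _ ha)
  inv_mem' := by
    intro z hz e he
    by_cases hz0 : z = 0
    · subst hz0
      exact ⟨0, by rw [inv_zero, map_zero, sub_zero, map_zero]; exact zero_lt_iff.2 ((v.ne_zero_iff).2 he)⟩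
    obtain ⟨a₁, ha₁⟩ := hz z hz0
    obtain ⟨a₂, ha₂⟩ := hz (e * z ^ 2) (mul_ne_zero he (pow_ne_zero 2 hz0))
    obtain ⟨a, ha, ha'⟩ : ∃ a : K, v (z - algebraMap K E a) < v z ∧ v (z - algebraMap K E a) < v (e * z ^ 2) := by
      rcases le_total (v (e * z ^ 2)) (v z) with h | h
      · exact ⟨a₂, lt_of_lt_of_le ha₂ h, ha₂⟩
      · exact ⟨a₁, ha₁, lt_of_lt_of_le ha₁ h⟩
    have hva : v (algebraMap K E a) = v z := by
      have h := v.map_sub_eq_of_lt_left ha
      rwa [sub_sub_cancel] at h
    have ha0 : algebraMap K E a ≠ 0 := fun h0 => by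
      rw [h0, map_zero] at hva
      exact hz0 ((v.zero_iff).1 hva.symm)
    refine ⟨a⁻¹, ?_⟩
    have h1 : z⁻¹ - algebraMap K E a⁻¹ = -(z - algebraMap K E a) * (z * algebraMap K E a)⁻¹ := by
      rw [map_inv₀]
      field_simp
      ring
    have hz2 : (0 : Γ) < v z ^ 2 := pow_pos (zero_lt_iff.2 ((v.ne_zero_iff).2 hz0)) 2
    rw [h1, map_mul, Valuation.map_neg, map_inv₀, map_mul, hva, ← pow_two, ← div_eq_mul_inv, div_lt_iff₀ hz2]
    rwa [map_mul, map_pow] at ha'

theorem mem_clo_iff {z : E} : z ∈ clo (K := K) v ↔ ∀ e : E, e ≠ 0 → ∃ a : K, v (z - algebraMap K E a) < v e := Iff.rfl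

end Clo

section

variable {k : Type u} [Field k] {R : Type u} [CommRing R] [IsDomain R] [IsDiscreteValuationRing R]
    [Algebra k R] (ρ : R →ₐ[k] k) {K : Type u} [Field K] [Algebra R K] [IsFractionRing R K]
    {E : Type u} [Field E] [Algebra K E]
    {O : Type u} [CommRing O] [IsDomain O] [IsDiscreteValuationRing O] [Algebra k O] [Algebra R O]
      [IsScalarTower k R O] [Algebra O E] [IsFractionRing O E]
    (hcomp : ∀ a : R, algebraMap O E (algebraMap R O a) = algebraMap K E (algebraMap R K a))
    (hm : (maximalIdeal R).map (algebraMap R O) = maximalIdeal O)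

theorem rho_mem (r : R) : r - algebraMap k R (ρ r) ∈ maximalIdeal R := by
  have h1 : RingHom.ker ρ.toRingHom = maximalIdeal R := by
    have hs : Function.Surjective ρ.toRingHom := fun b => ⟨algebraMap k R b, ρ.commutes b⟩
    have := RingHom.ker_isMaximal_of_surjective ρ.toRingHom hs
    exact eq_maximalIdeal this
  rw [← h1, RingHom.mem_ker]
  change ρ (r - algebraMap k R (ρ r)) = 0
  rw [map_sub, ρ.commutes, Algebra.algebraMap_self, RingHom.id_apply, sub_self]

include hm in
theorem map_mem {r : R} (h : r ∈ maximalIdeal R) : algebraMap R O r ∈ maximalIdeal O := by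
  rw [← hm]; exact Ideal.mem_map_of_mem _ h

include hm in
theorem residue_algebraMap (r : R) : residue O (algebraMap R O r) = algebraMap k (ResidueField O) (ρ r) := by
  rw [IsScalarTower.algebraMap_apply k O (ResidueField O), IsScalarTower.algebraMap_apply k R O]
  change residue O _ = residue O _
  rw [← sub_eq_zero, ← map_sub, ← map_sub, residue_eq_zero_iff]
  exact map_mem hm (rho_mem ρ r)

variable (E O) in
/-- The valuation of `E`. -/
noncomputable abbrev vv : Valuation E (WithZero (Multiplicative ℤ)) :=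
  (IsDiscreteValuationRing.maximalIdeal O).valuation E

theorem vv_lt_one_iff (o : O) : vv E O (algebraMap O E o) < 1 ↔ o ∈ maximalIdeal O :=
  (IsDiscreteValuationRing.maximalIdeal O).valuation_lt_one_iff_mem o

theorem vv_le_one (o : O) : vv E O (algebraMap O E o) ≤ 1 :=
  (IsDiscreteValuationRing.maximalIdeal O).valuation_le_one o

include ρ hcomp hm in
theorem exists_residue {z : E} (hz : z ∈ clo (K := K) (vv E O)) (h : vv E O z ≤ 1) :
    ∃ (o : O) (β : k), algebraMap O E o = z ∧ residue O o = algebraMap k (ResidueField O) β := by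
  obtain ⟨o, rfl⟩ := IsDiscreteValuationRing.exists_lift_of_le_one h
  obtain ⟨a, ha⟩ := hz 1 one_ne_zero
  rw [map_one] at ha
  have ha1 : vv E O (algebraMap K E a) ≤ 1 := by
    have := (vv E O).map_sub_le h ha.le
    rwa [sub_sub_cancel] at this
  obtain ⟨r, rfl⟩ : ∃ r : R, algebraMap R K r = a := by
    by_cases ha0 : a = 0
    · exact ⟨0, by rw [map_zero, ha0]⟩
    have ha0' : vv E O (algebraMap K E a) ≠ 0 :=
      (Valuation.ne_zero_iff _).2 ((_root_.map_ne_zero _).2 ha0)
    rcases ValuationRing.isInteger_or_isInteger R a with ⟨r, hr⟩ | ⟨r, hr⟩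
    · exact ⟨r, hr⟩
    · by_cases hu : IsUnit r
      · obtain ⟨s, hs⟩ := hu.exists_right_inv
        refine ⟨s, ?_⟩
        have h1 : algebraMap R K r * algebraMap R K s = 1 := by rw [← map_mul, hs, map_one]
        rw [hr] at h1
        exact (eq_of_inv_mul_eq_one h1).symm
      · exfalso
        have h1 := (vv_lt_one_iff (E := E) _).2 (map_mem hm ((mem_maximalIdeal r).2 hu))
        rw [hcomp, hr, map_inv₀, map_inv₀] at h1
        exact absurd ha1 (not_le.2 ((inv_lt_one₀ (zero_lt_iff.2 ha0')).1 h1))
  refine ⟨o, ρ r, rfl, ?_⟩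
  rw [← residue_algebraMap ρ hm r, ← sub_eq_zero, ← map_sub, residue_eq_zero_iff, ← vv_lt_one_iff (E := E),
    map_sub, hcomp]
  exact ha

include ρ hcomp hm in
/-- If `K` is dense in `K(x)`, the residue field of `O` is algebraic over `k`. -/
theorem isAlgebraic_residue (F : IntermediateField K E) (hF : F ≤ clo (vv E O)) (y : O)
    (hy : IsAlgebraic F (algebraMap O E y)) : IsAlgebraic k (residue O y) := by
  classical
  obtain ⟨P, hP, hPy⟩ := hy
  obtain ⟨i₀, hi₀, hmax⟩ := Finset.exists_max_image P.support (fun i => vv E O (P.coeff i : E))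
    (nonempty_support_iff.2 hP)
  have hc₀ : (P.coeff i₀ : E) ≠ 0 := fun h => (mem_support_iff.1 hi₀) (Subtype.ext h)
  have key : ∀ i ∈ P.support, ∃ (o : O) (β : k), algebraMap O E o = (P.coeff i : E) / (P.coeff i₀ : E) ∧
      residue O o = algebraMap k (ResidueField O) β := by
    intro i hi
    refine exists_residue ρ hcomp hm (hF (div_mem (P.coeff i).2 (P.coeff i₀).2)) ?_
    rw [map_div₀]
    exact div_le_one_of_le₀ (hmax i hi) zero_le
  choose! o β ho hβ using key
  have h1 : ∑ i ∈ P.support, o i * y ^ i = 0 := by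
    apply IsFractionRing.injective O E
    rw [map_sum, map_zero]
    have h2 : (∑ i ∈ P.support, (P.coeff i : E) * algebraMap O E y ^ i) = 0 := by
      rw [aeval_eq_sum_range' (n := P.natDegree + 1) (Nat.lt_succ_self _)] at hPy
      rw [← hPy, ← Finset.sum_subset (Polynomial.supp_subset_range (Nat.lt_succ_self _))]
      · exact Finset.sum_congr rfl fun i _ => by rw [Algebra.smul_def]; rfl
      · intro i _ hi
        rw [notMem_support_iff.1 hi, zero_smul]
    have h3 : ∀ i ∈ P.support, algebraMap O E (o i * y ^ i) =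
        (P.coeff i₀ : E)⁻¹ * ((P.coeff i : E) * algebraMap O E y ^ i) := fun i hi => by
      rw [map_mul, map_pow, ho i hi]
      field_simp
    rw [Finset.sum_congr rfl h3, ← Finset.mul_sum, h2, mul_zero]
  have h2 : algebraMap k (ResidueField O) (β i₀) = 1 := by
    rw [← hβ i₀ hi₀]
    have h3 : o i₀ = 1 := IsFractionRing.injective O E (by rw [ho i₀ hi₀, div_self hc₀, map_one])
    rw [h3, map_one]
  refine ⟨∑ i ∈ P.support, monomial i (β i), ?_, ?_⟩
  · intro h3
    have h4 := congrArg (fun Q => coeff Q i₀) h3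
    simp only [finsetSum_coeff, coeff_monomial, Finset.sum_ite_eq', hi₀, if_true, coeff_zero] at h4
    rw [h4, map_zero] at h2
    exact zero_ne_one h2
  · rw [map_sum]
    have h5 := congrArg (residue O) h1
    rw [map_sum, map_zero] at h5
    rw [← h5]
    exact Finset.sum_congr rfl fun i hi => by rw [aeval_monomial, map_mul, map_pow, hβ i hi]

end

/-- `K760.Hurw.GaussStmt`. -/
theorem gauss : K760.Hurw.GaussStmt.{u} := by
  intro k _ _ R _ _ _ _ ρ K _ _ _ E _ _ x hx halg O _ _ _ _ _ _ _ _ hcomp hm hy
  obtain ⟨π, hπ⟩ := IsDiscreteValuationRing.exists_irreducible R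
  have hϖm : maximalIdeal O = Ideal.span {algebraMap R O π} := by
    rw [← hm, hπ.maximalIdeal_eq, Ideal.map_span, Set.image_singleton]
  have hϖ : Irreducible (algebraMap R O π) := (IsDiscreteValuationRing.irreducible_iff_uniformizer _).2 hϖm
  have hϖ0 : algebraMap O E (algebraMap R O π) ≠ 0 := by
    rw [Ne, map_eq_zero_iff _ (IsFractionRing.injective O E)]; exact hϖ.ne_zero
  have hxa : ∀ a : K, x - algebraMap K E a ≠ 0 := fun a h => by
    rw [sub_eq_zero] at h
    exact hx (h ▸ isAlgebraic_algebraMap a)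
  by_cases hcl : x ∈ clo (K := K) (vv E O)
  · exfalso
    obtain ⟨y₀, hy₀⟩ := hy
    obtain ⟨y, rfl⟩ := residue_surjective y₀
    refine hy₀ (isAlgebraic_residue ρ hcomp hm (IntermediateField.adjoin K {x}) ?_ y (halg _))
    rw [IntermediateField.adjoin_simple_le_iff]
    exact hcl
  · rw [mem_clo_iff] at hcl
    push Not at hcl
    obtain ⟨e, he, hbd⟩ := hcl
    obtain ⟨N, w, hw⟩ := IsDiscreteValuationRing.exists_units_eq_smul_zpow_of_irreducible (K := E) hϖ he
    have hvπ1 : vv E O (algebraMap O E (algebraMap R O π)) < 1 :=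
      (vv_lt_one_iff _).2 (hϖm ▸ Ideal.mem_span_singleton_self _)
    have hvπ0 : 0 < vv E O (algebraMap O E (algebraMap R O π)) := zero_lt_iff.2 ((Valuation.ne_zero_iff _).2 hϖ0)
    have hvu : ∀ (w : Oˣ) (n : ℤ), vv E O (w • algebraMap O E (algebraMap R O π) ^ n) =
        vv E O (algebraMap O E (algebraMap R O π)) ^ n := by
      intro w n
      rw [Units.smul_def, Algebra.smul_def, map_mul, map_zpow₀]
      have h1 : vv E O (algebraMap O E (w : O)) = 1 := by
        refine le_antisymm (vv_le_one _) (not_lt.1 fun h => ?_)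
        exact (mem_maximalIdeal _).1 ((vv_lt_one_iff _).1 h) w.isUnit
      rw [h1, one_mul]
    obtain ⟨n, ⟨a, u, hau⟩, hmax⟩ := Int.exists_greatest_of_bdd
      (P := fun n => ∃ (a : K) (u : Oˣ), x - algebraMap K E a = u • algebraMap O E (algebraMap R O π) ^ n)
      ⟨N, by
        rintro n ⟨a, u, hau⟩
        have h1 := hbd a
        rw [hau, hw, hvu, hvu] at h1
        exact (zpow_le_zpow_iff_right_of_lt_one₀ hvπ0 hvπ1).1 h1⟩
      (by
        obtain ⟨n, u, h⟩ := IsDiscreteValuationRing.exists_units_eq_smul_zpow_of_irreducible (K := E) hϖ (hxa 0)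
        exact ⟨n, 0, u, h⟩)
    have hπK : algebraMap R K π ≠ 0 := by
      rw [Ne, map_eq_zero_iff _ (IsFractionRing.injective R K)]; exact hπ.ne_zero
    refine ⟨a, algebraMap R K π ^ n, u, zpow_ne_zero n hπK, ?_, ?_⟩
    · rw [hau, map_zpow₀, ← hcomp, Units.smul_def, Algebra.smul_def, mul_comm]
    · intro hal
      have : Algebra.IsAlgebraic k (IntermediateField.adjoin k {residue O (u : O)}) :=
        IntermediateField.isAlgebraic_adjoin_simple hal.isIntegral
      have h1 := IntermediateField.eq_bot_of_isAlgClosed_of_isAlgebraic (IntermediateField.adjoin k {residue O (u : O)})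
      obtain ⟨β, hβ⟩ := IntermediateField.mem_bot.1 (h1 ▸ IntermediateField.mem_adjoin_simple_self k (residue O (u : O)))
      have h2 : (u : O) - algebraMap R O (algebraMap k R β) ∈ maximalIdeal O := by
        rw [← residue_eq_zero_iff, map_sub, residue_algebraMap ρ hm, ρ.commutes, Algebra.algebraMap_self,
          RingHom.id_apply, hβ, sub_self]
      rw [hϖm, Ideal.mem_span_singleton] at h2
      obtain ⟨o, ho⟩ := h2
      let a' : K := a + algebraMap R K π ^ n * algebraMap R K (algebraMap k R β)
      have h3 : x - algebraMap K E a' = algebraMap O E o * algebraMap O E (algebraMap R O π) ^ (n + 1) := by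
        have h4 : x - algebraMap K E a' = (x - algebraMap K E a) -
            algebraMap O E (algebraMap R O π) ^ n * algebraMap O E (algebraMap R O (algebraMap k R β)) := by
          simp only [a', map_add, map_mul, map_zpow₀, hcomp]
          ring
        rw [h4, hau, Units.smul_def, Algebra.smul_def, zpow_add_one₀ hϖ0]
        have h5 := congrArg (algebraMap O E) ho
        rw [map_sub, map_mul] at h5
        linear_combination (algebraMap O E (algebraMap R O π)) ^ n * h5
      obtain ⟨n', u', h'⟩ :=
        IsDiscreteValuationRing.exists_units_eq_smul_zpow_of_irreducible (K := E) hϖ (hxa a')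
      have h5 := hmax n' ⟨a', u', h'⟩
      have h6 : vv E O (algebraMap O E (algebraMap R O π)) ^ n' ≤
          vv E O (algebraMap O E (algebraMap R O π)) ^ (n + 1) := by
        rw [← hvu u' n', ← h', h3, map_mul, map_zpow₀]
        exact mul_le_of_le_one_left zero_le (vv_le_one o)
      have h7 := (zpow_le_zpow_iff_right_of_lt_one₀ hvπ0 hvπ1).1 h6
      omega

end K90.Hurw
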