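import Groth.Agent.CurvSt.K90.UnrQ
import Mathlib.RingTheory.RootsOfUnity.EnoughRootsOfUnity
import Mathlib.RingTheory.RootsOfUnity.AlgebraicallyClosed

/-!
# After adjoining a root of the uniformizer the cover becomes unramified over the Gauss valuation
-/

set_option autoImplicit false

universe u

open Polynomial IsLocalRing K760.Hurw

namespace K90.Hurw

/-- The residue field does not change. -/
theorem exists_residue_equiv (k : Type u) [Field k] (O : Type u) [CommRing O] [IsDomain O]
    [IsDiscreteValuationRing O] [Algebra k O] {ϖ : O} (hϖ : Irreducible ϖ) {e : ℕ} (he : e ≠ 0)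
    [IsLocalRing (Q e ϖ)] (u : O) :
    ∃ ε : ResidueField O ≃ₐ[k] ResidueField (Q e ϖ), ε (residue O u) = residue _ (algebraMap O (Q e ϖ) u) := by
  have hloc := Q.isLocalHom hϖ he
  let ε₀ : ResidueField O →ₐ[k] ResidueField (Q e ϖ) :=
    { ResidueField.map (algebraMap O (Q e ϖ)) with
      commutes' := fun c => by
        change ResidueField.map (algebraMap O (Q e ϖ)) (residue O (algebraMap k O c)) =
          residue (Q e ϖ) (algebraMap k (Q e ϖ) c)
        rw [ResidueField.map_residue, ← IsScalarTower.algebraMap_apply] }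
  have hε : ∀ x : O, ε₀ (residue O x) = residue _ (algebraMap O (Q e ϖ) x) := fun x =>
    ResidueField.map_residue _ _
  refine ⟨AlgEquiv.ofBijective ε₀ ⟨ε₀.toRingHom.injective, fun y => ?_⟩, hε u⟩
  obtain ⟨y, rfl⟩ := residue_surjective y
  obtain ⟨c, x, rfl⟩ := Q.exists_const he y
  refine ⟨residue O c, ?_⟩
  have hT : residue (Q e ϖ) (Q.T e ϖ) = 0 := by
    rw [residue_eq_zero_iff, Q.maximalIdeal_eq hϖ he]
    exact Ideal.mem_span_singleton_self _
  rw [hε, map_add, map_mul, hT, zero_mul, add_zero]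

theorem rho_uniformizer {k : Type u} [Field k] {R : Type u} [CommRing R] [IsDomain R] [IsDiscreteValuationRing R]
    [Algebra k R] (ρ : R →ₐ[k] k) {ϖ : R} (hϖ : Irreducible ϖ) : ρ ϖ = 0 := by
  have h1 : (RingHom.ker ρ.toRingHom).IsMaximal :=
    RingHom.ker_isMaximal_of_surjective _ fun c => ⟨algebraMap k R c, ρ.commutes c⟩
  have h2 : ϖ ∈ RingHom.ker ρ.toRingHom := by
    rw [eq_maximalIdeal h1, hϖ.maximalIdeal_eq]
    exact Ideal.mem_span_singleton_self _
  exact h2

theorem ramKill : K760.Hurw.RamKillStmt.{u} := by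
  intro k _ _ _ R _ _ _ _ ρ K _ _ _ B _ _ _ r b hS O _ _ _ _ _ _ hmax E _ _ _ _ _ hcomp u hu htr
  have := hS.finite
  have := hS.free
  obtain ⟨ϖ, hϖ⟩ := IsDiscreteValuationRing.exists_irreducible R
  have hϖO : Irreducible (algebraMap R O ϖ) := by
    rw [IsDiscreteValuationRing.irreducible_iff_uniformizer, ← hmax, hϖ.maximalIdeal_eq, Ideal.map_span,
      Set.image_singleton]
  have hKB : Function.Injective (algebraMap K[X] B) := FaithfulSMul.algebraMap_injective _ _
  -- the map `R[X] → E`
  let f : R[X] →+* E := (algebraMap B E).comp (rx R K B)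
  have hf : Function.Injective f := (IsFractionRing.injective B E).comp (hKB.comp
    (map_injective (algebraMap R K) (IsFractionRing.injective R K)))
  have hchar : CharZero R := charZero_of_injective_ringHom (algebraMap k R).injective
  have hfin : letI : Algebra (FractionRing R[X]) E := (toE f hf).toAlgebra; FiniteDimensional (FractionRing R[X]) E := by
    let _ : Algebra (FractionRing R[X]) E := (toE f hf).toAlgebra
    have hinj : Function.Injective ((algebraMap R[X] (FractionRing R[X])).comp C) :=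
      (IsFractionRing.injective R[X] (FractionRing R[X])).comp C_injective
    let κ : K →+* FractionRing R[X] := IsFractionRing.lift hinj
    let ι : K[X] →+* FractionRing R[X] := eval₂RingHom κ (algebraMap R[X] (FractionRing R[X]) X)
    refine finite_of K[X] B (FractionRing R[X]) E ι fun g => ?_
    have h1 : (toE f hf).comp ι = (algebraMap B E).comp (algebraMap K[X] B) := by
      refine Polynomial.ringHom_ext (fun c => ?_) ?_
      · have h2 : (toE f hf).comp κ = ((algebraMap B E).comp (algebraMap K[X] B)).comp C := by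
          refine IsLocalization.ringHom_ext (nonZeroDivisors R) ?_
          ext x
          have h3 : κ (algebraMap R K x) = algebraMap R[X] (FractionRing R[X]) (C x) := IsFractionRing.lift_algebraMap _ _
          rw [RingHom.comp_apply, RingHom.comp_apply, h3, toE_apply]
          simp [f, rx]
        rw [RingHom.comp_apply, coe_eval₂RingHom, eval₂_C]
        exact DFunLike.congr_fun h2 c
      · rw [RingHom.comp_apply, coe_eval₂RingHom, eval₂_X, toE_apply]
        simp [f, rx]
    exact DFunLike.congr_fun h1 g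
  obtain ⟨e, he, star⟩ := exists_star' f hf hfin hϖ.ne_zero
  have : NeZero e := ⟨he⟩
  obtain ⟨ζ₀, hζ₀⟩ := HasEnoughRootsOfUnity.exists_primitiveRoot k e
  let ζ : R := algebraMap k R ζ₀
  have hζ1 : ζ ^ e = 1 := by rw [← map_pow, hζ₀.pow_eq_one, map_one]
  have hζ : ∀ l : ℕ, ¬ e ∣ l → ∑ j ∈ Finset.range e, (ζ ^ l) ^ j = 0 := by
    intro l hl
    have h1 : ∑ j ∈ Finset.range e, (ζ₀ ^ l) ^ j = 0 := by
      have h2 := mul_neg_geom_sum (ζ₀ ^ l) e
      rw [← pow_mul, mul_comm l e, pow_mul, hζ₀.pow_eq_one, one_pow, sub_self] at h2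
      refine (mul_eq_zero.1 h2).resolve_left fun h3 => hl ?_
      rw [sub_eq_zero] at h3
      exact hζ₀.dvd_of_pow_eq_one l h3.symm
    have h2 := congrArg (algebraMap k R) h1
    simpa [map_sum, map_pow] using h2
  have heR : IsUnit (e : R) := by
    have h1 : IsUnit (e : k) := by
      rw [isUnit_iff_ne_zero]
      exact_mod_cast he
    simpa using h1.map (algebraMap k R)
  -- the objects
  obtain ⟨aK, haK⟩ : ∃ aK, algebraMap R K ϖ = aK := ⟨_, rfl⟩
  obtain ⟨aO, haO⟩ : ∃ aO, algebraMap R O ϖ = aO := ⟨_, rfl⟩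
  obtain ⟨aB, haB⟩ : ∃ aB, algebraMap K[X] B (C aK) = aB := ⟨_, rfl⟩
  obtain ⟨aE, haE⟩ : ∃ aE, algebraMap B E aB = aE := ⟨_, rfl⟩
  rw [haO] at hϖO
  have haOE : algebraMap O E aO = aE := by rw [← haO, hcomp, haK, haB, haE]
  have : Fact (Irreducible (X ^ e - C aK : K[X])) := ⟨by rw [← haK]; exact Q.irreducible hϖ he K⟩
  have : Fact (Irreducible (X ^ e - C aE : E[X])) := ⟨by rw [← haOE]; exact Q.irreducible hϖO he E⟩
  have hdR : IsDomain (Q e ϖ) := Q.isDomain hϖ he
  have hvR : IsDiscreteValuationRing (Q e ϖ) := Q.isDiscreteValuationRing hϖ he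
  have hdO : IsDomain (Q e aO) := Q.isDomain hϖO he
  have hvO : IsDiscreteValuationRing (Q e aO) := Q.isDiscreteValuationRing hϖO he
  let ρ' : Q e ϖ →ₐ[k] k := AdjoinRoot.liftAlgHom _ ρ 0 (by
    rw [eval₂_sub, eval₂_pow, eval₂_X, eval₂_C, zero_pow he, zero_sub, neg_eq_zero]
    exact rho_uniformizer ρ hϖ)
  let φ : R →ₐ[k] Q e ϖ := IsScalarTower.toAlgHom k R (Q e ϖ)
  let aRK : Algebra (Q e ϖ) (Q e aK) := (Q.map (algebraMap R K) haK).toAlgebra
  let aKB : Algebra (Q e aK)[X] (Q e aB) := (kb haB).toAlgebra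
  let aRO : Algebra (Q e ϖ) (Q e aO) := (Q.map (algebraMap R O) haO).toAlgebra
  let aBE : Algebra (Q e aB) (Q e aE) := (Q.map (algebraMap B E) haE).toAlgebra
  let aOE : Algebra (Q e aO) (Q e aE) := (Q.map (algebraMap O E) haOE).toAlgebra
  have hψ : ∀ x : R, algebraMap K (Q e aK) (algebraMap R K x) = algebraMap (Q e ϖ) (Q e aK) (φ x) := fun x =>
    (Q.map_algebraMap (algebraMap R K) haK x).symm
  have hφ : Function.Injective φ := by
    intro x y hxy
    have h1 := congrArg (algebraMap (Q e ϖ) (Q e aK)) hxy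
    rw [← hψ, ← hψ] at h1
    exact IsFractionRing.injective R K (FaithfulSMul.algebraMap_injective K (Q e aK) h1)
  have hfrR : IsFractionRing (Q e ϖ) (Q e aK) := isFractionRing_map he haK fun _ => rfl
  have hfrO : IsFractionRing (Q e aO) (Q e aE) := isFractionRing_map he haOE fun _ => rfl
  have hfrB : IsFractionRing (Q e aB) (Q e aE) := isFractionRing_map he haE fun _ => rfl
  have hdB : IsDomain (Q e aB) :=
    (Q.map_injective (e := e) (algebraMap B E) haE he (IsFractionRing.injective B E)).isDomain _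
  have htow : IsScalarTower k (Q e ϖ) (Q e aO) := IsScalarTower.of_algebraMap_eq fun x => by
    change _ = Q.map (algebraMap R O) haO (algebraMap k (Q e ϖ) x)
    rw [IsScalarTower.algebraMap_apply k R (Q e ϖ), Q.map_algebraMap, ← IsScalarTower.algebraMap_apply k R O,
      ← IsScalarTower.algebraMap_apply k O (Q e aO)]
  obtain ⟨ε, hε⟩ := exists_residue_equiv k O hϖO he u
  refine ⟨Q e ϖ, inferInstance, hdR, hvR, inferInstance, ρ', φ, hφ, Q.isLocalHom hϖ he,
    Q e aK, inferInstance, aRK, hfrR, algebraMap K (Q e aK), hψ,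
    Q e aB, inferInstance, hdB, aKB,
    Q e aO, inferInstance, hdO, hvO, inferInstance, aRO, htow,
    Q e aE, inferInstance, aBE, hfrB, aOE, hfrO, algebraMap O (Q e aO) u, ε, Q.T e ϖ,
    isSimp_Q he haB (fun _ => rfl) hS, ?_, ?_, ?_, hε, Q.maximalIdeal_eq hϖ he, ?_⟩
  · rw [Q.maximalIdeal_eq hϖ he, Q.maximalIdeal_eq hϖO he, Ideal.map_span, Set.image_singleton]
    congr 2
    exact Q.map_T (algebraMap R O) haO
  · intro x
    change Q.map (algebraMap O E) haOE (Q.map (algebraMap R O) haO x) =
      Q.map (algebraMap B E) haE (kb haB (C (Q.map (algebraMap R K) haK x)))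
    rw [kb_C, Q.map_map, Q.map_map, Q.map_map]
    refine Q.map_congr _ _ ?_ _ _
    ext y
    exact hcomp y
  · change Q.map (algebraMap O E) haOE (algebraMap O (Q e aO) u) = Q.map (algebraMap B E) haE (kb haB X)
    rw [kb_X, Q.map_algebraMap, Q.map_algebraMap, hu]
  · exact unr_Q hϖ he haK haB haE f hf (fun _ => rfl) (fun _ => rfl) (fun _ => rfl) heR hζ1 hζ star

end K90.Hurw
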