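import Groth.Agent.CurvSt.K90.Star
import Mathlib.RingTheory.DedekindDomain.IntegralClosure
import Mathlib.RingTheory.DiscreteValuationRing.TFAE
import Mathlib.RingTheory.Localization.AtPrime.Basic
import Mathlib.RingTheory.Polynomial.Basic
import Mathlib.RingTheory.LocalRing.ResidueField.Basic

/-!
# The localization of `R[X]` at the prime `m_R R[X]`
-/

set_option autoImplicit false

universe u v

open Polynomial IsLocalRing

namespace K90.Hurw

section GW

variable (R : Type u) [CommRing R] [IsDomain R] [IsDiscreteValuationRing R]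

/-- The prime ideal `m_R R[X]`. -/
noncomputable abbrev gp : Ideal R[X] := RingHom.ker (mapRingHom (residue R))

instance : (gp R).IsPrime := RingHom.ker_isPrime _

/-- The local ring of `R[X]` at `m_R R[X]`. -/
noncomputable abbrev GW : Type u := Localization.AtPrime (gp R)

variable {R}

theorem mem_gp {f : R[X]} : f ∈ gp R ↔ f.map (residue R) = 0 := Iff.rfl

theorem gp_eq {ϖ : R} (hϖ : Irreducible ϖ) : gp R = Ideal.span {C ϖ} := by
  ext f
  rw [mem_gp, Ideal.mem_span_singleton]
  constructor
  · intro h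
    rw [C_dvd_iff_dvd_coeff]
    intro i
    have h1 : residue R (f.coeff i) = 0 := by rw [← coeff_map, h, coeff_zero]
    rwa [residue_eq_zero_iff, hϖ.maximalIdeal_eq, Ideal.mem_span_singleton] at h1
  · rintro ⟨g, rfl⟩
    have h1 : residue R ϖ = 0 := (residue_eq_zero_iff _).2 ((mem_maximalIdeal _).2 hϖ.not_isUnit)
    rw [Polynomial.map_mul, map_C, h1, C_0, zero_mul]

theorem isDVR_GW : IsDiscreteValuationRing (GW R) := by
  obtain ⟨ϖ, hϖ⟩ := IsDiscreteValuationRing.exists_irreducible R
  have hmax : maximalIdeal (GW R) = Ideal.span {algebraMap R[X] (GW R) (C ϖ)} := by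
    rw [← Localization.AtPrime.map_eq_maximalIdeal]
    refine (congrArg (Ideal.map (algebraMap R[X] (GW R))) (gp_eq hϖ)).trans ?_
    rw [Ideal.map_span, Set.image_singleton]
  have hf : ¬ IsField (GW R) := by
    rw [IsLocalRing.isField_iff_maximalIdeal_eq, hmax, Ideal.span_singleton_eq_bot]
    intro h
    have h1 := (IsLocalization.to_map_eq_zero_iff (M := (gp R).primeCompl) (GW R)
      (gp R).primeCompl_le_nonZeroDivisors).1 h
    exact hϖ.ne_zero (C_eq_zero.1 h1)
  refine ((IsDiscreteValuationRing.TFAE (GW R) hf).out 0 4).2 ?_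
  rw [hmax]
  exact ⟨⟨_, rfl⟩⟩

variable {E : Type v} [Field E] (f : R[X] →+* E) (hf : Function.Injective f)

/-- The map from the fraction field of `R[X]`. -/
noncomputable def toE : FractionRing R[X] →+* E := IsFractionRing.lift hf

/-- The map from the local ring. -/
noncomputable def wE : GW R →+* E := (toE f hf).comp (algebraMap (GW R) (FractionRing R[X]))

omit [IsDiscreteValuationRing R] in
theorem toE_apply (a : R[X]) : toE f hf (algebraMap _ _ a) = f a := IsFractionRing.lift_algebraMap _ _

theorem wE_apply (a : R[X]) : wE f hf (algebraMap _ _ a) = f a := by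
  rw [wE, RingHom.comp_apply, ← IsScalarTower.algebraMap_apply, toE_apply]

theorem exists_star' [CharZero R] (hfin : letI := (toE f hf).toAlgebra; FiniteDimensional (FractionRing R[X]) E)
    {ϖ : R} (hϖ : ϖ ≠ 0) :
    ∃ e : ℕ, e ≠ 0 ∧ ∀ (y : E) (i m : ℕ), m ≠ 0 →
      (∃ d : E, (wE f hf).IsIntegralElem d ∧ (y ^ e * f (C ϖ) ^ i) ^ m = f (C ϖ) * d) →
      ∃ d : E, (wE f hf).IsIntegralElem d ∧ y ^ e * f (C ϖ) ^ i = f (C ϖ) * d := by
  let _ : Algebra (FractionRing R[X]) E := (toE f hf).toAlgebra
  have : FiniteDimensional (FractionRing R[X]) E := hfin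
  let _ : Algebra (GW R) E := (wE f hf).toAlgebra
  have : IsScalarTower (GW R) (FractionRing R[X]) E := IsScalarTower.of_algebraMap_eq' rfl
  have := isDVR_GW (R := R)
  have : CharZero R[X] := inferInstance
  have : CharZero (FractionRing R[X]) := inferInstance
  have := integralClosure.isDedekindDomain (GW R) (FractionRing R[X]) E
  have := integralClosure.isFractionRing_of_finite_extension (A := GW R) (FractionRing R[X]) E
  have hw : algebraMap (GW R) E (algebraMap R[X] (GW R) (C ϖ)) = f (C ϖ) := wE_apply f hf _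
  set p : integralClosure (GW R) E := algebraMap _ _ (algebraMap R[X] (GW R) (C ϖ)) with hp
  have hpE : algebraMap (integralClosure (GW R) E) E p = f (C ϖ) := by
    rw [hp, ← IsScalarTower.algebraMap_apply, hw]
  obtain ⟨e, he, h⟩ := exists_star (E := E) p (fun h0 => by
    have h1 : f (C ϖ) = 0 := by rw [← hpE, h0, map_zero]
    exact hϖ (C_eq_zero.1 ((map_eq_zero_iff f hf).1 h1)))
  refine ⟨e, he, fun y i m hm ⟨d, hd, hd'⟩ => ?_⟩
  obtain ⟨c, hc⟩ := h y i m hm ⟨⟨d, hd⟩, by rw [hpE, hd', map_mul, hpE]; rfl⟩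
  rw [hpE, map_mul, hpE] at hc
  exact ⟨c, c.2, hc⟩

end GW

/-- Finiteness of the extension of the fields of fractions. -/
theorem finite_of (A B F E : Type u) [CommRing A] [IsDomain A] [CommRing B] [IsDomain B] [Algebra A B]
    [Module.Finite A B] [FaithfulSMul A B] [Field F] (ι : A →+* F) [Field E] [Algebra B E] [IsFractionRing B E]
    [Algebra F E] (h : ∀ a : A, algebraMap F E (ι a) = algebraMap B E (algebraMap A B a)) : Module.Finite F E := by
  classical
  obtain ⟨s, hs⟩ := (inferInstance : Module.Finite A B).fg_top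
  refine ⟨⟨s.image (algebraMap B E), ?_⟩⟩
  have h1 : ∀ b : B, algebraMap B E b ∈ Submodule.span F ((s.image (algebraMap B E) : Finset E) : Set E) := by
    intro b
    have hb : b ∈ Submodule.span A (s : Set B) := by rw [hs]; trivial
    induction hb using Submodule.span_induction with
    | mem x hx => exact Submodule.subset_span (Finset.mem_coe.2 (Finset.mem_image_of_mem _ hx))
    | zero => rw [map_zero]; exact zero_mem _
    | add x y _ _ hx hy => rw [map_add]; exact add_mem hx hy
    | smul a x _ hx =>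
      rw [Algebra.smul_def, map_mul, ← h, ← Algebra.smul_def]
      exact Submodule.smul_mem _ _ hx
  rw [eq_top_iff]
  rintro y -
  obtain ⟨b, c, hc, rfl⟩ := IsFractionRing.div_surjective B y
  obtain ⟨a, ha, c', hc'⟩ := (Algebra.IsAlgebraic.isAlgebraic (R := A) c).exists_nonzero_dvd hc
  have hc0 : algebraMap B E c ≠ 0 := by
    rw [Ne, FaithfulSMul.algebraMap_eq_zero_iff]
    exact nonZeroDivisors.ne_zero hc
  have ha0 : algebraMap B E (algebraMap A B a) ≠ 0 := by
    rw [Ne, FaithfulSMul.algebraMap_eq_zero_iff, FaithfulSMul.algebraMap_eq_zero_iff]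
    exact ha
  have h2 : algebraMap B E b / algebraMap B E c = (ι a)⁻¹ • algebraMap B E (b * c') := by
    rw [Algebra.smul_def, map_inv₀, h, map_mul]
    rw [hc', map_mul] at ha0 ⊢
    have hc'0 := right_ne_zero_of_mul ha0
    field_simp
  rw [h2]
  exact Submodule.smul_mem _ _ (h1 _)

end K90.Hurw
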