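import Groth.Agent.CurvSt.K90.Qe
import Mathlib.RingTheory.IntegralClosure.IntegralRestrict

/-!
# `T` is radical in the integral closure of `W` in `E[T]/(T ^ e - p)`

Averages over the automorphisms `T ↦ ζ T` reduce to monomials `c T ^ i`.
-/

set_option autoImplicit false

universe u v w

open Polynomial IsLocalRing

namespace K90.Hurw

namespace Q

section Sigma

variable {W : Type u} [CommRing W] {E : Type v} [CommRing E] [Algebra W E] (e : ℕ) (p : E)

/-- The automorphism `T ↦ ξ T`. -/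
noncomputable def sig (ξ : W) (hξ : ξ ^ e = 1) : Q e p →ₐ[W] Q e p :=
  AdjoinRoot.liftAlgHom _ (IsScalarTower.toAlgHom W E (Q e p)) (algebraMap W (Q e p) ξ * T e p) (by
    rw [eval₂_sub, eval₂_pow, eval₂_X, eval₂_C, mul_pow, ← map_pow, hξ, map_one, one_mul, T_pow, sub_eq_zero]
    rfl)

theorem sig_T (ξ : W) (hξ : ξ ^ e = 1) : sig e p ξ hξ (T e p) = algebraMap W (Q e p) ξ * T e p :=
  AdjoinRoot.liftAlgHom_root _ _ _ _

theorem sig_algebraMap (ξ : W) (hξ : ξ ^ e = 1) (c : E) :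
    sig e p ξ hξ (algebraMap E (Q e p) c) = algebraMap E (Q e p) c :=
  AdjoinRoot.liftAlgHom_of _ _ _ _ _

variable {e p}

theorem average [Nontrivial E] (he : e ≠ 0) {ζ : W} (hζ1 : ζ ^ e = 1)
    (hζ : ∀ l : ℕ, ¬ e ∣ l → ∑ j ∈ Finset.range e, (ζ ^ l) ^ j = 0) (z : Q e p) (i : Fin e) :
    ∑ j ∈ Finset.range e, algebraMap W (Q e p) ((ζ ^ (e - (i : ℕ))) ^ j) *
      sig e p (ζ ^ j) (by rw [← pow_mul, mul_comm, pow_mul, hζ1, one_pow]) z =
      (e : Q e p) * (algebraMap E (Q e p) ((basis e p he).repr z i) * T e p ^ (i : ℕ)) := by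
  have h1 : ∀ j : ℕ, sig e p (ζ ^ j) (by rw [← pow_mul, mul_comm, pow_mul, hζ1, one_pow]) z =
      ∑ l : Fin e, algebraMap E (Q e p) ((basis e p he).repr z l) *
        (algebraMap W (Q e p) (ζ ^ j) * T e p) ^ (l : ℕ) := fun j => by
    conv_lhs => rw [eq_sum e p he z, map_sum]
    exact Finset.sum_congr rfl fun l _ => by rw [map_mul, map_pow, sig_T, sig_algebraMap]
  simp only [h1, Finset.mul_sum]
  rw [Finset.sum_comm, Finset.sum_eq_single i]
  · have h2 : ∀ j : ℕ, algebraMap W (Q e p) ((ζ ^ (e - (i : ℕ))) ^ j) *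
        (algebraMap E (Q e p) ((basis e p he).repr z i) *
          (algebraMap W (Q e p) (ζ ^ j) * T e p) ^ (i : ℕ)) =
        algebraMap E (Q e p) ((basis e p he).repr z i) * T e p ^ (i : ℕ) := fun j => by
      have h3 : (ζ ^ (e - (i : ℕ))) ^ j * (ζ ^ j) ^ (i : ℕ) = 1 := by
        rw [← pow_mul, ← pow_mul, ← pow_add, mul_comm j, ← add_mul, Nat.sub_add_cancel i.2.le, pow_mul, hζ1,
          one_pow]
      rw [mul_pow, ← map_pow (algebraMap W (Q e p)) (ζ ^ j)]
      calc _ = algebraMap W (Q e p) ((ζ ^ (e - (i : ℕ))) ^ j * (ζ ^ j) ^ (i : ℕ)) *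
            (algebraMap E (Q e p) ((basis e p he).repr z i) * T e p ^ (i : ℕ)) := by rw [map_mul]; ring
        _ = _ := by rw [h3, map_one, one_mul]
    rw [Finset.sum_congr rfl fun j _ => h2 j, Finset.sum_const, Finset.card_range, nsmul_eq_mul]
  · intro l _ hl
    have h2 : ∀ j : ℕ, algebraMap W (Q e p) ((ζ ^ (e - (i : ℕ))) ^ j) *
        (algebraMap E (Q e p) ((basis e p he).repr z l) *
          (algebraMap W (Q e p) (ζ ^ j) * T e p) ^ (l : ℕ)) =
        algebraMap W (Q e p) ((ζ ^ (e - (i : ℕ) + l)) ^ j) *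
          (algebraMap E (Q e p) ((basis e p he).repr z l) * T e p ^ (l : ℕ)) := fun j => by
      rw [mul_pow, pow_add, mul_pow, map_mul, map_pow, ← map_pow (algebraMap W (Q e p)) (ζ ^ j), ← pow_mul ζ j,
        mul_comm j, pow_mul ζ (l : ℕ) j]
      rw [← map_pow (algebraMap W (Q e p)) (ζ ^ _)]
      ring
    rw [Finset.sum_congr rfl fun j _ => h2 j, ← Finset.sum_mul, ← map_sum, hζ, map_zero, zero_mul]
    intro hd
    apply hl
    apply Fin.ext
    have hi := i.2
    have hl' := l.2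
    obtain ⟨c, hc⟩ := hd
    have hc1 : c = 1 := by
      have h3 : 0 < e - (i : ℕ) + l := by omega
      have h4 : e - (i : ℕ) + l < 2 * e := by omega
      rw [hc] at h3 h4
      have h5 : c < 2 := by
        by_contra h6
        have : 2 * e ≤ e * c := by nlinarith
        omega
      have h7 : c ≠ 0 := by
        rintro rfl
        simp at h3
      omega
    rw [hc1, mul_one] at hc
    omega
  · intro h; exact absurd (Finset.mem_univ i) h

end Sigma

section Main

variable {W : Type u} [CommRing W] {E : Type v} [Field E] [Algebra W E] {e : ℕ} (he : e ≠ 0) {p : W} {p' : E}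
  (hp' : algebraMap W E p = p') (hp : p' ≠ 0)

include he hp in
omit [Algebra W E] in
theorem exists_inv : ∃ s : Q e p', T e _ * s = 1 := by
  obtain ⟨n, rfl⟩ := Nat.exists_eq_succ_of_ne_zero he
  refine ⟨T _ _ ^ n * algebraMap E _ p'⁻¹, ?_⟩
  rw [← mul_assoc, ← pow_succ', T_pow, ← map_mul, mul_inv_cancel₀ hp, map_one]

include he hp' in
theorem isIntegral_T : IsIntegral W (T e p') := by
  refine IsIntegral.of_pow (Nat.pos_of_ne_zero he) ?_
  rw [T_pow, ← hp', ← IsScalarTower.algebraMap_apply W E]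
  exact isIntegral_algebraMap

include he in
omit [Algebra W E] in
theorem algebraMap_injective' : Function.Injective (algebraMap E (Q e p')) := by
  have : Nontrivial (Q e p') := (basis e p' he).repr.toEquiv.nontrivial_congr.2
    (by
      have : Nonempty (Fin e) := ⟨⟨0, Nat.pos_of_ne_zero he⟩⟩
      infer_instance)
  exact FaithfulSMul.algebraMap_injective E (Q e p')

include he hp' hp in
/-- The ideal of `T` in the integral closure of `W` in `E[T]/(T ^ e - p)` is radical. -/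
theorem kill {ζ : W} (hζ1 : ζ ^ e = 1)
    (hζ : ∀ l : ℕ, ¬ e ∣ l → ∑ j ∈ Finset.range e, (ζ ^ l) ^ j = 0) (heW : IsUnit (e : W))
    (star : ∀ (y : E) (i m : ℕ), m ≠ 0 →
      (∃ d : E, IsIntegral W d ∧ (y ^ e * p' ^ i) ^ m = p' * d) →
      ∃ d : E, IsIntegral W d ∧ y ^ e * p' ^ i = p' * d)
    (z : Q e p') (hz : IsIntegral W z) (n : ℕ) (d : Q e p') (hd : IsIntegral W d) (h : z ^ n = T e _ * d) :
    ∃ y, IsIntegral W y ∧ z = T e _ * y := by
  classical
  obtain ⟨s, hs⟩ := exists_inv he hp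
  -- the ring of integers and the radical of `T`
  let C := integralClosure W (Q e p')
  let t : C := ⟨T e p', isIntegral_T he hp'⟩
  let J : Ideal C := (Ideal.span {t}).radical
  have hzJ : (⟨z, hz⟩ : C) ∈ J := ⟨n, Ideal.mem_span_singleton.2 ⟨⟨d, hd⟩, Subtype.ext h⟩⟩
  have hσJ : ∀ (ξ : W) (hξ : ξ ^ e = 1) (x : C), x ∈ J → (sig e p' ξ hξ).mapIntegralClosure x ∈ J := by
    rintro ξ hξ x ⟨m, hm⟩
    obtain ⟨c, hc⟩ := Ideal.mem_span_singleton.1 hm
    refine ⟨m, Ideal.mem_span_singleton.2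
      ⟨algebraMap W C ξ * (sig e p' ξ hξ).mapIntegralClosure c, ?_⟩⟩
    rw [← map_pow, hc, map_mul]
    have h1 : (sig e p' ξ hξ).mapIntegralClosure t = algebraMap W C ξ * t :=
      Subtype.ext (sig_T e p' ξ hξ)
    rw [h1]; ring
  -- the components
  have hcomp : ∀ i : Fin e, ∃ x : C, x ∈ J ∧
      (x : Q e p') = algebraMap E (Q e p') ((basis e p' he).repr z i) * T e p' ^ (i : ℕ) := by
    intro i
    obtain ⟨u, hu⟩ := heW.exists_left_inv
    refine ⟨algebraMap W C u * ∑ j ∈ Finset.range e, algebraMap W C ((ζ ^ (e - (i : ℕ))) ^ j) *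
      (sig e p' (ζ ^ j) (by rw [← pow_mul, mul_comm, pow_mul, hζ1, one_pow])).mapIntegralClosure ⟨z, hz⟩,
      J.mul_mem_left _ (sum_mem fun j _ => J.mul_mem_left _ (hσJ _ _ _ hzJ)), ?_⟩
    have h1 := average he hζ1 hζ z i
    have h2 : ((∑ j ∈ Finset.range e, algebraMap W C ((ζ ^ (e - (i : ℕ))) ^ j) *
      (sig e p' (ζ ^ j) (by rw [← pow_mul, mul_comm, pow_mul, hζ1, one_pow])).mapIntegralClosure
        ⟨z, hz⟩ : C) : Q e p') = ∑ j ∈ Finset.range e, algebraMap W (Q e p') ((ζ ^ (e - (i : ℕ))) ^ j) *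
      sig e p' (ζ ^ j) (by rw [← pow_mul, mul_comm, pow_mul, hζ1, one_pow]) z := by
      rw [AddSubmonoidClass.coe_finsetSum]
      rfl
    have h3 : (((algebraMap W C u : C) : Q e p')) = algebraMap W (Q e p') u := rfl
    rw [MulMemClass.coe_mul, h2, h1, h3, ← mul_assoc, ← map_natCast (algebraMap W (Q e p')), ← map_mul, hu,
      map_one, one_mul]
  have hinj := algebraMap_injective' (p' := p') he
  -- divide by `T`
  have hdiv : ∀ i : Fin e, ∃ y : Q e p', IsIntegral W y ∧
      algebraMap E (Q e p') ((basis e p' he).repr z i) * T e p' ^ (i : ℕ) = T e p' * y := by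
    intro i
    obtain ⟨x, ⟨m, hm⟩, hx⟩ := hcomp i
    obtain ⟨c, hc⟩ := Ideal.mem_span_singleton.1 hm
    set y := (basis e p' he).repr z i
    have hc' : (algebraMap E (Q e p') y * T e p' ^ (i : ℕ)) ^ m = T e p' * c := by
      rw [← hx]
      exact congrArg Subtype.val hc
    have hTe : T e p' ^ e = algebraMap E (Q e p') p' := T_pow _ _
    -- the equation in `E`
    have h1 : algebraMap E (Q e p') ((y ^ e * p' ^ (i : ℕ)) ^ (m + 1)) =
        algebraMap E (Q e p') p' * ((c : Q e p') * (x : Q e p')) ^ e := by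
      have h2 : (algebraMap E (Q e p') y * T e p' ^ (i : ℕ)) ^ (m + 1) = T e p' * (c * x) := by
        rw [pow_succ, hc', ← hx, mul_assoc]
      calc _ = ((algebraMap E (Q e p') y * T e p' ^ (i : ℕ)) ^ (m + 1)) ^ e := by
            rw [map_pow, map_mul, map_pow, map_pow, ← hTe]
            ring
        _ = _ := by rw [h2, mul_pow, hTe]
    have h3 : IsIntegral W ((y ^ e * p' ^ (i : ℕ)) ^ (m + 1) * p'⁻¹) := by
      have h4 : algebraMap E (Q e p') ((y ^ e * p' ^ (i : ℕ)) ^ (m + 1) * p'⁻¹) =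
          ((c : Q e p') * (x : Q e p')) ^ e := by
        rw [map_mul, h1, mul_comm, ← mul_assoc, ← map_mul, inv_mul_cancel₀ hp, map_one, one_mul]
      have h5 : IsIntegral W (algebraMap E (Q e p') ((y ^ e * p' ^ (i : ℕ)) ^ (m + 1) * p'⁻¹)) := by
        rw [h4]
        exact ((show IsIntegral W (c : Q e p') from c.2).mul (show IsIntegral W (x : Q e p') from x.2)).pow e
      exact (isIntegral_algHom_iff (IsScalarTower.toAlgHom W E (Q e p')) hinj).1 h5
    obtain ⟨d, hd, hd'⟩ := star y i (m + 1) (Nat.succ_ne_zero m) ⟨_, h3, by field_simp⟩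
    refine ⟨algebraMap E (Q e p') y * T e p' ^ (i : ℕ) * s, ?_, ?_⟩
    · refine IsIntegral.of_pow (Nat.pos_of_ne_zero he) ?_
      have hse : algebraMap E (Q e p') p' * s ^ e = 1 := by
        rw [← hTe, ← mul_pow, hs, one_pow]
      have h6 : (algebraMap E (Q e p') y * T e p' ^ (i : ℕ) * s) ^ e = algebraMap E (Q e p') d := by
        calc _ = algebraMap E (Q e p') y ^ e * (T e p' ^ e) ^ (i : ℕ) * s ^ e := by ring
          _ = algebraMap E (Q e p') (y ^ e * p' ^ (i : ℕ)) * s ^ e := by rw [hTe]; simp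
          _ = algebraMap E (Q e p') d * (algebraMap E (Q e p') p' * s ^ e) := by rw [hd', map_mul]; ring
          _ = _ := by rw [hse, mul_one]
      rw [h6]
      exact hd.map (IsScalarTower.toAlgHom W E (Q e p'))
    · rw [mul_comm _ s, ← mul_assoc (T e p'), hs, one_mul]
  choose Y hY hY' using hdiv
  refine ⟨∑ i, Y i, IsIntegral.sum _ fun i _ => hY i, ?_⟩
  conv_lhs => rw [eq_sum e p' he z]
  rw [Finset.mul_sum]
  exact Finset.sum_congr rfl fun i _ => hY' i

end Main

end Q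

end K90.Hurw
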