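import Mathlib.RingTheory.AdjoinRoot
import Mathlib.RingTheory.DiscreteValuationRing.Basic
import Mathlib.RingTheory.DiscreteValuationRing.TFAE
import Mathlib.RingTheory.Polynomial.Eisenstein.Basic
import Mathlib.RingTheory.Polynomial.GaussLemma
import Mathlib.RingTheory.Localization.Integer
import Mathlib.RingTheory.Ideal.GoingUp
import Mathlib.RingTheory.LocalRing.ResidueField.Basic

/-!
# The rings `A[T]/(T ^ e - a)`

* `Q e a`, `Q.basis`, `Q.map` : functoriality and coordinates;
* `Q.isFractionRing` : fraction fields;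
* `Q.isDiscreteValuationRing`, `Q.residue_bijective` : the case of a uniformizer of a discrete valuation ring.
-/

set_option autoImplicit false

universe u v w

open Polynomial IsLocalRing

namespace K90.Hurw

/-- `A[T]/(T ^ e - a)`. -/
abbrev Q {A : Type u} [CommRing A] (e : ℕ) (a : A) : Type u := AdjoinRoot (X ^ e - C a : A[X])

namespace Q

section Basic

variable {A : Type u} [CommRing A] (e : ℕ) (a : A)

/-- The root. -/
noncomputable abbrev T : Q e a := AdjoinRoot.root (X ^ e - C a : A[X])

theorem T_pow : (T e a) ^ e = algebraMap A (Q e a) a := by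
  have h := AdjoinRoot.eval₂_root (X ^ e - C a : A[X])
  rw [eval₂_sub, eval₂_pow, eval₂_X, eval₂_C, sub_eq_zero] at h
  exact h

variable (he : e ≠ 0)

/-- The basis `1, T, …, T ^ (e - 1)`. -/
noncomputable def basis [Nontrivial A] (he : e ≠ 0) : Module.Basis (Fin e) A (Q e a) :=
  (AdjoinRoot.powerBasis' (monic_X_pow_sub_C a he)).basis.reindex (finCongr (by
    rw [AdjoinRoot.powerBasis'_dim, natDegree_X_pow_sub_C]))

theorem basis_apply [Nontrivial A] (i : Fin e) : basis e a he i = T e a ^ (i : ℕ) := by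
  simp [basis]

theorem eq_sum [Nontrivial A] (x : Q e a) :
    x = ∑ i : Fin e, algebraMap A (Q e a) ((basis e a he).repr x i) * T e a ^ (i : ℕ) := by
  conv_lhs => rw [← (basis e a he).sum_repr x]
  exact Finset.sum_congr rfl fun i _ => by rw [basis_apply, Algebra.smul_def]

theorem repr_sum [Nontrivial A] (c : Fin e → A) (i : Fin e) :
    (basis e a he).repr (∑ i : Fin e, algebraMap A (Q e a) (c i) * T e a ^ (i : ℕ)) i = c i := by
  have h : (∑ i : Fin e, algebraMap A (Q e a) (c i) * T e a ^ (i : ℕ)) = ∑ i, c i • basis e a he i :=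
    Finset.sum_congr rfl fun i _ => by rw [basis_apply, Algebra.smul_def]
  rw [h, (basis e a he).repr_sum_self]

end Basic

section Map

variable {A : Type u} {A' : Type v} {A'' : Type w} [CommRing A] [CommRing A'] [CommRing A''] {e : ℕ} {a : A} {a' : A'} {a'' : A''}

/-- Functoriality. -/
noncomputable def map (f : A →+* A') (h : f a = a') : Q e a →+* Q e a' :=
  AdjoinRoot.map f _ _ (by rw [← h]; simp)

variable (f : A →+* A') (h : f a = a')

@[simp] theorem map_algebraMap (x : A) :
    (map f h : Q e a →+* Q e a') (algebraMap A (Q e a) x) = algebraMap A' (Q e a') (f x) :=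
  AdjoinRoot.map_of _ _ _ _ _

@[simp] theorem map_T : map (e := e) f h (T e a) = T e a' := by
  rw [map, AdjoinRoot.map]
  exact AdjoinRoot.lift_root _

theorem map_map (g : A' →+* A'') (h' : g a' = a'') (x : Q e a) :
    map g h' (map f h x) = map (g.comp f) (by rw [RingHom.comp_apply, h, h']) x := by
  have : (map (e := e) g h').comp (map f h) = map (g.comp f) (by rw [RingHom.comp_apply, h, h']) := by
    refine AdjoinRoot.ringHom_ext (RingHom.ext fun r => ?_) ?_
    · have h3 : (g.comp f) a = a'' := by rw [RingHom.comp_apply, h, h']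
      change map g h' (map f h (algebraMap A (Q e a) r)) =
        (map (g.comp f) h3 : Q e a →+* Q e a'') (algebraMap A (Q e a) r)
      rw [map_algebraMap, map_algebraMap, map_algebraMap, RingHom.comp_apply]
    · rw [RingHom.comp_apply]
      erw [map_T, map_T, map_T]
  exact DFunLike.congr_fun this x

theorem map_congr {g : A →+* A'} (hfg : f = g) (h' : g a = a') (x : Q e a) : map f h x = map g h' x := by
  subst hfg; rfl

theorem repr_map [Nontrivial A] [Nontrivial A'] (he : e ≠ 0) (x : Q e a) (i : Fin e) :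
    (basis e a' he).repr (map f h x) i = f ((basis e a he).repr x i) := by
  conv_lhs => rw [eq_sum e a he x, map_sum]
  have h1 : ∀ j : Fin e, map f h (algebraMap A (Q e a) ((basis e a he).repr x j) * T e a ^ (j : ℕ)) =
      algebraMap A' (Q e a') (f ((basis e a he).repr x j)) * T e a' ^ (j : ℕ) := fun j => by
    rw [map_mul, map_algebraMap, map_pow, map_T]
  simp only [h1]
  exact repr_sum e a' he _ i

theorem map_injective [Nontrivial A] [Nontrivial A'] (he : e ≠ 0) (hf : Function.Injective f) :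
    Function.Injective (map (e := e) f h) := by
  intro x y hxy
  apply (basis e a he).ext_elem
  intro i
  apply hf
  rw [← repr_map f h he, ← repr_map f h he, hxy]

end Map

section Frac

variable {A : Type u} [CommRing A] [IsDomain A] {L : Type v} [Field L] [Algebra A L] [IsFractionRing A L]
  {e : ℕ} (he : e ≠ 0) (a : A) {a' : L} (h : algebraMap A L a = a')

include he in
theorem exists_frac (z : Q e a') :
    ∃ (x : Q e a) (s : A), s ≠ 0 ∧ map (algebraMap A L) h x = algebraMap L _ (algebraMap A L s) * z := by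
  obtain ⟨s, hs⟩ := IsLocalization.exist_integer_multiples (nonZeroDivisors A) Finset.univ
    (fun i : Fin e => (basis e a' he).repr z i)
  choose c hc using fun i => hs i (Finset.mem_univ i)
  refine ⟨∑ i : Fin e, algebraMap A (Q e a) (c i) * T e a ^ (i : ℕ), s, nonZeroDivisors.ne_zero s.2, ?_⟩
  conv_rhs => rw [eq_sum e a' he z, Finset.mul_sum]
  rw [map_sum]
  refine Finset.sum_congr rfl fun i _ => ?_
  rw [map_mul, map_algebraMap, map_pow, map_T, hc i, ← mul_assoc, ← map_mul]
  congr 2
  exact Algebra.smul_def _ _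

end Frac

section Eis

variable {V : Type u} [CommRing V] [IsDomain V] [IsDiscreteValuationRing V] {ϖ : V} (hϖ : Irreducible ϖ)
  {e : ℕ} (he : e ≠ 0)

include hϖ he

theorem eisenstein : (X ^ e - C ϖ : V[X]).IsEisensteinAt (maximalIdeal V) := by
  have hm : maximalIdeal V = Ideal.span {ϖ} := hϖ.maximalIdeal_eq
  have hmon := monic_X_pow_sub_C ϖ he
  refine ⟨?_, ?_, ?_⟩
  · rw [hmon.leadingCoeff]
    exact (Ideal.ne_top_iff_one _).mp (IsLocalRing.maximalIdeal.isMaximal V).ne_top
  · intro i hi
    rw [natDegree_X_pow_sub_C] at hi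
    rw [coeff_sub, coeff_X_pow, coeff_C, if_neg (by omega), zero_sub]
    split_ifs
    · rw [hm]; exact neg_mem (Ideal.mem_span_singleton_self ϖ)
    · simp
  · rw [coeff_sub, coeff_X_pow, coeff_C_zero, if_neg (by omega), zero_sub, neg_mem_iff, hm,
      Ideal.span_singleton_pow, Ideal.mem_span_singleton]
    rintro ⟨c, hc⟩
    have h1 : ϖ * (1 - ϖ * c) = 0 := by linear_combination hc
    rcases mul_eq_zero.mp h1 with h2 | h2
    · exact hϖ.ne_zero h2
    · exact hϖ.not_isUnit (IsUnit.of_mul_eq_one c (by linear_combination -h2))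

theorem irreducible (L : Type v) [Field L] [Algebra V L] [IsFractionRing V L] :
    Irreducible (X ^ e - C (algebraMap V L ϖ) : L[X]) := by
  have hmon := monic_X_pow_sub_C ϖ he
  have h1 : Irreducible ((X ^ e - C ϖ : V[X]).map (algebraMap V L)) := by
    rw [← hmon.irreducible_iff_irreducible_map_fraction_map]
    exact (eisenstein hϖ he).irreducible (IsLocalRing.maximalIdeal.isMaximal V).isPrime hmon.isPrimitive
      (by rw [natDegree_X_pow_sub_C]; omega)
  simpa using h1

theorem isDomain : IsDomain (Q e ϖ) := by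
  have : Fact (Irreducible (X ^ e - C (algebraMap V (FractionRing V) ϖ) : (FractionRing V)[X])) :=
    ⟨irreducible hϖ he _⟩
  exact (map_injective (e := e) (algebraMap V (FractionRing V)) (rfl : _ = algebraMap V (FractionRing V) ϖ) he
    (IsFractionRing.injective V _)).isDomain _

omit hϖ [IsDomain V] [IsDiscreteValuationRing V] in
/-- Every element is congruent to a constant modulo `T`. -/
theorem exists_const [Nontrivial V] (x : Q e ϖ) :
    ∃ (c : V) (y : Q e ϖ), x = algebraMap V (Q e ϖ) c + T e ϖ * y := by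
  obtain ⟨n, rfl⟩ := Nat.exists_eq_succ_of_ne_zero he
  refine ⟨(basis (n + 1) ϖ he).repr x 0,
    ∑ i : Fin n, algebraMap V (Q (n + 1) ϖ) ((basis (n + 1) ϖ he).repr x i.succ) * T (n + 1) ϖ ^ (i : ℕ), ?_⟩
  conv_lhs => rw [eq_sum (n + 1) ϖ he x, Fin.sum_univ_succ]
  rw [Fin.val_zero, pow_zero, mul_one, Finset.mul_sum]
  congr 1
  refine Finset.sum_congr rfl fun i _ => ?_
  rw [show ((i.succ : Fin (n + 1)) : ℕ) = (i : ℕ) + 1 from rfl, pow_succ (T (n + 1) ϖ) (i : ℕ)]
  ring

/-- The reduction modulo `T`. -/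
noncomputable def red : Q e ϖ →+* ResidueField V :=
  AdjoinRoot.lift (residue V) 0 (by
    rw [eval₂_sub, eval₂_pow, eval₂_X, eval₂_C, zero_pow he, zero_sub, neg_eq_zero, residue_eq_zero_iff]
    exact (mem_maximalIdeal _).2 hϖ.not_isUnit)

theorem red_algebraMap (c : V) : red hϖ he (algebraMap V _ c) = residue V c := AdjoinRoot.lift_of _

theorem red_T : red hϖ he (T e ϖ) = 0 := AdjoinRoot.lift_root _

theorem ker_red : RingHom.ker (red hϖ he) = Ideal.span {T e ϖ} := by
  ext x
  rw [RingHom.mem_ker, Ideal.mem_span_singleton]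
  constructor
  · intro hx
    obtain ⟨c, y, rfl⟩ := exists_const he x
    rw [map_add, map_mul, red_T, zero_mul, add_zero, red_algebraMap, residue_eq_zero_iff, hϖ.maximalIdeal_eq,
      Ideal.mem_span_singleton] at hx
    obtain ⟨d, rfl⟩ := hx
    refine dvd_add ?_ (dvd_mul_right _ _)
    rw [map_mul, ← T_pow]
    exact (dvd_pow_self _ he).mul_right _
  · rintro ⟨y, rfl⟩
    rw [map_mul, red_T, zero_mul]

theorem isMaximal_span : (Ideal.span {T e ϖ}).IsMaximal := by
  rw [← ker_red hϖ he]
  exact RingHom.ker_isMaximal_of_surjective _ fun y => by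
    obtain ⟨c, rfl⟩ := residue_surjective y
    exact ⟨_, red_algebraMap hϖ he c⟩

theorem eq_span (M : Ideal (Q e ϖ)) [M.IsMaximal] : M = Ideal.span {T e ϖ} := by
  have := isMaximal_span hϖ he
  symm
  refine (isMaximal_span hϖ he).eq_of_le (Ideal.IsMaximal.ne_top inferInstance) ?_
  rw [Ideal.span_singleton_le_iff_mem]
  have hint : Algebra.IsIntegral V (Q e ϖ) := by
    have : Module.Finite V (Q e ϖ) := Module.Finite.of_basis (basis e ϖ he)
    infer_instance
  have h1 : (M.comap (algebraMap V (Q e ϖ))).IsMaximal := Ideal.isMaximal_comap_of_isIntegral_of_isMaximal M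
  have h2 : algebraMap V (Q e ϖ) ϖ ∈ M := by
    change ϖ ∈ M.comap (algebraMap V (Q e ϖ))
    rw [eq_maximalIdeal h1, hϖ.maximalIdeal_eq]
    exact Ideal.mem_span_singleton_self _
  rw [← T_pow] at h2
  exact (inferInstance : M.IsPrime).mem_of_pow_mem _ h2

theorem isLocalRing : IsLocalRing (Q e ϖ) :=
  IsLocalRing.of_unique_max_ideal ⟨_, isMaximal_span hϖ he, fun M _ => eq_span hϖ he M⟩

theorem maximalIdeal_eq [IsLocalRing (Q e ϖ)] : maximalIdeal (Q e ϖ) = Ideal.span {T e ϖ} := eq_span hϖ he _

theorem T_ne_zero : T e ϖ ≠ 0 := fun h => by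
  have h1 := T_pow e ϖ
  rw [h, zero_pow he] at h1
  have h2 : algebraMap V (Q e ϖ) ϖ = algebraMap V (Q e ϖ) 0 := by rw [← h1, map_zero]
  have h3 := congrArg (fun x => (basis e ϖ he).repr x ⟨0, Nat.pos_of_ne_zero he⟩) h2
  have h4 : ∀ c : V, (basis e ϖ he).repr (algebraMap V (Q e ϖ) c) ⟨0, Nat.pos_of_ne_zero he⟩ = c := by
    intro c
    have h5 : algebraMap V (Q e ϖ) c = c • basis e ϖ he ⟨0, Nat.pos_of_ne_zero he⟩ := by
      rw [basis_apply, pow_zero, Algebra.smul_def, mul_one]
    rw [h5, map_smul, Finsupp.smul_apply, Module.Basis.repr_self, Finsupp.single_eq_same, smul_eq_mul, mul_one]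
  simp only [h4] at h3
  exact hϖ.ne_zero h3

theorem isDiscreteValuationRing [IsDomain (Q e ϖ)] : IsDiscreteValuationRing (Q e ϖ) := by
  have := isLocalRing hϖ he
  have : Module.Finite V (Q e ϖ) := Module.Finite.of_basis (basis e ϖ he)
  have : IsNoetherianRing (Q e ϖ) := IsNoetherianRing.of_finite V (Q e ϖ)
  have hf : ¬ IsField (Q e ϖ) := by
    rw [IsLocalRing.isField_iff_maximalIdeal_eq, maximalIdeal_eq hϖ he, Ideal.span_singleton_eq_bot]
    exact T_ne_zero hϖ he
  refine ((IsDiscreteValuationRing.TFAE (Q e ϖ) hf).out 0 4).2 ?_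
  rw [maximalIdeal_eq hϖ he]
  exact ⟨⟨_, rfl⟩⟩

theorem isLocalHom [IsLocalRing (Q e ϖ)] : IsLocalHom (algebraMap V (Q e ϖ)) := by
  refine ⟨fun x hx => ?_⟩
  by_contra h
  have h1 : x ∈ maximalIdeal V := (mem_maximalIdeal x).2 h
  rw [← residue_eq_zero_iff, ← red_algebraMap hϖ he] at h1
  have h2 : algebraMap V (Q e ϖ) x ∈ RingHom.ker (red hϖ he) := h1
  rw [ker_red] at h2
  exact (isMaximal_span hϖ he).ne_top (Ideal.eq_top_of_isUnit_mem _ h2 hx)

end Eis

end Q

end K90.Hurw
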