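import Groth.Agent.CurvSt.K90.Qe
import Groth.Agent.CurvSt.K760.Iface2

/-!
# Simple covers and the base change `K ⊂ K[T]/(T ^ e - a)`
-/

set_option autoImplicit false

universe u

open Polynomial IsLocalRing K760.Hurw

namespace K90.Hurw

section Disc

variable {A A' B B' : Type u} [CommRing A] [CommRing A'] [CommRing B] [CommRing B'] [Algebra A B] [Algebra A' B']
  (φ : A →+* A') (θ : B →+* B') (hφ : ∀ a, θ (algebraMap A B a) = algebraMap A' B' (φ a))
  {ι : Type*} [Fintype ι] [DecidableEq ι] (b : Module.Basis ι A B) (b' : Module.Basis ι A' B')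
  (hb : ∀ i, b' i = θ (b i))

include hφ hb

omit [DecidableEq ι] in
theorem repr_theta (y : B) (i : ι) : b'.repr (θ y) i = φ (b.repr y i) := by
  have h1 : θ y = ∑ i, φ (b.repr y i) • b' i := by
    conv_lhs => rw [← b.sum_repr y, map_sum]
    exact Finset.sum_congr rfl fun i _ => by rw [Algebra.smul_def, map_mul, hφ, hb, Algebra.smul_def]
  rw [h1, b'.repr_sum_self]

theorem trace_theta (y : B) : Algebra.trace A' B' (θ y) = φ (Algebra.trace A B y) := by
  rw [Algebra.trace_eq_matrix_trace b, Algebra.trace_eq_matrix_trace b', Matrix.trace, Matrix.trace, map_sum]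
  refine Finset.sum_congr rfl fun i _ => ?_
  rw [Matrix.diag_apply, Matrix.diag_apply, Algebra.leftMulMatrix_eq_repr_mul, Algebra.leftMulMatrix_eq_repr_mul,
    hb, ← map_mul, repr_theta φ θ hφ b b' hb]

theorem discr_theta : Algebra.discr A' b' = φ (Algebra.discr A b) := by
  rw [Algebra.discr_def, Algebra.discr_def, RingHom.map_det]
  congr 1
  ext i j
  rw [RingHom.mapMatrix_apply, Matrix.map_apply, Algebra.traceMatrix_apply, Algebra.traceMatrix_apply,
    Algebra.traceForm_apply, Algebra.traceForm_apply, hb, hb, ← map_mul, trace_theta φ θ hφ b b' hb]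

end Disc

/-- Discriminants with respect to two bases. -/
theorem discr_dvd_discr {A B : Type u} [CommRing A] [CommRing B] [Algebra A B] {ι κ : Type*} [Fintype ι]
    [Fintype κ] [DecidableEq ι] [DecidableEq κ] (b : Module.Basis ι A B) (c : Module.Basis κ A B) :
    Algebra.discr A b ∣ Algebra.discr A c := by
  by_cases hA : Nontrivial A
  · let e := b.indexEquiv c
    have h1 : Algebra.discr A c = Algebra.discr A (c.reindex e.symm) := by
      rw [Module.Basis.coe_reindex]
      exact (Algebra.discr_reindex A c e.symm).symm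
    rw [h1]
    have h2 : ((c.reindex e.symm) : ι → B) = Matrix.vecMul b ((b.toMatrix (c.reindex e.symm)).map (algebraMap A B)) := by
      ext i
      rw [← b.sum_toMatrix_smul_self (c.reindex e.symm) i, Matrix.vecMul, dotProduct]
      exact Finset.sum_congr rfl fun j _ => by rw [Matrix.map_apply, Algebra.smul_def, mul_comm]
    rw [h2, Algebra.discr_of_matrix_vecMul]
    exact dvd_mul_left _ _
  · rw [not_nontrivial_iff_subsingleton] at hA
    exact ⟨0, Subsingleton.elim _ _⟩

section Base

variable {K : Type u} [Field K] {B : Type u} [CommRing B] [Algebra K[X] B] {e : ℕ} (he : e ≠ 0) {a : K} {a' : B}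
  (ha : algebraMap K[X] B (C a) = a')

/-- The map `K'[X] → B'`. -/
noncomputable def kb : (Q e a)[X] →+* Q e a' :=
  eval₂RingHom (Q.map ((algebraMap K[X] B).comp C) ha) (algebraMap B (Q e a') (algebraMap K[X] B X))

theorem kb_C (c : Q e a) : kb ha (C c) = Q.map ((algebraMap K[X] B).comp C) ha c := by
  rw [kb, coe_eval₂RingHom, eval₂_C]

theorem kb_X : kb (e := e) ha X = algebraMap B (Q e a') (algebraMap K[X] B X) := by
  rw [kb, coe_eval₂RingHom, eval₂_X]

theorem kb_map (f : K[X]) :
    kb ha (f.map (algebraMap K (Q e a))) = algebraMap B (Q e a') (algebraMap K[X] B f) := by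
  have h : (kb (e := e) ha).comp (mapRingHom (algebraMap K (Q e a))) =
      (algebraMap B (Q e a')).comp (algebraMap K[X] B) := by
    refine Polynomial.ringHom_ext (fun c => ?_) ?_
    · rw [RingHom.comp_apply, coe_mapRingHom, map_C, kb_C]
      exact Q.map_algebraMap _ _ _
    · rw [RingHom.comp_apply, coe_mapRingHom, map_X, kb_X, RingHom.comp_apply]
  exact DFunLike.congr_fun h f

theorem kb_T : kb ha (C (Q.T e a)) = Q.T e a' := by
  rw [kb_C, Q.map_T]

include he in
theorem exists_decomp {A : Type u} [CommRing A] [Nontrivial A] {a : A} (f : (Q e a)[X]) :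
    ∃ c : Fin e → A[X], f = ∑ j : Fin e, (c j).map (algebraMap A (Q e a)) * C (Q.T e a) ^ (j : ℕ) := by
  induction f using Polynomial.induction_on' with
  | add p q hp hq =>
    obtain ⟨c, hc⟩ := hp
    obtain ⟨d, hd⟩ := hq
    refine ⟨fun j => c j + d j, ?_⟩
    simp only [Polynomial.map_add, add_mul, Finset.sum_add_distrib]
    rw [← hc, ← hd]
  | monomial n x =>
    refine ⟨fun j => monomial n ((Q.basis e a he).repr x j), ?_⟩
    conv_lhs => rw [Q.eq_sum e a he x, map_sum]
    exact Finset.sum_congr rfl fun j _ => by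
      rw [Polynomial.map_monomial, ← C_mul_X_pow_eq_monomial, ← C_mul_X_pow_eq_monomial, C_mul, C_pow]
      ring

variable [Nontrivial B] {ι : Type*} [Fintype ι] (b : Module.Basis ι K[X] B)
  [Algebra (Q e a)[X] (Q e a')] (hal : ∀ f : (Q e a)[X], algebraMap _ (Q e a') f = kb ha f)

include he hal in
theorem exists_basis' : ∃ b' : Module.Basis ι (Q e a)[X] (Q e a'), ∀ i, b' i = algebraMap B (Q e a') (b i) := by
  have hsm : ∀ (f : (Q e a)[X]) (y : Q e a'), f • y = kb ha f * y := fun f y => by
    rw [Algebra.smul_def f y, hal]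
  have hli : LinearIndependent (Q e a)[X] (fun i => algebraMap B (Q e a') (b i)) := by
    rw [Fintype.linearIndependent_iff]
    intro f hf
    choose c hc using fun i => exists_decomp he (f i)
    have h1 : ∑ j : Fin e, algebraMap B (Q e a') (∑ i, c i j • b i) * Q.T e a' ^ (j : ℕ) = 0 := by
      rw [← hf]
      simp_rw [map_sum, Finset.sum_mul]
      rw [Finset.sum_comm]
      refine Finset.sum_congr rfl fun i _ => ?_
      conv_rhs => rw [hsm, hc i, map_sum, Finset.sum_mul]
      refine Finset.sum_congr rfl fun j _ => ?_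
      rw [map_mul, map_pow, kb_T, kb_map, Algebra.smul_def, map_mul]
      ring
    have h2 : ∀ j : Fin e, ∑ i, c i j • b i = 0 := fun j => by
      rw [← Q.repr_sum e a' he (fun j => ∑ i, c i j • b i) j, h1, map_zero, Finsupp.zero_apply]
    have h3 : ∀ i j, c i j = 0 := fun i j =>
      (Fintype.linearIndependent_iff.1 b.linearIndependent (fun i => c i j) (h2 j)) i
    intro i
    rw [hc i]
    exact Finset.sum_eq_zero fun j _ => by rw [h3, Polynomial.map_zero, zero_mul]
  have hsp : ⊤ ≤ Submodule.span (Q e a)[X] (Set.range fun i => algebraMap B (Q e a') (b i)) := by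
    rintro y -
    rw [Q.eq_sum e a' he y]
    refine sum_mem fun j _ => ?_
    rw [← b.sum_repr ((Q.basis e a' he).repr y j), map_sum, Finset.sum_mul]
    refine sum_mem fun i _ => ?_
    have h1 : algebraMap B (Q e a') (b.repr ((Q.basis e a' he).repr y j) i • b i) * Q.T e a' ^ (j : ℕ) =
        ((b.repr ((Q.basis e a' he).repr y j) i).map (algebraMap K (Q e a)) * C (Q.T e a) ^ (j : ℕ)) •
          algebraMap B (Q e a') (b i) := by
      rw [hsm, map_mul, map_pow, kb_T, kb_map, Algebra.smul_def, map_mul]
      ring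
    rw [h1]
    exact Submodule.smul_mem _ _ (Submodule.subset_span ⟨i, rfl⟩)
  exact ⟨Module.Basis.mk hli hsp, fun i => Module.Basis.mk_apply _ _ _⟩

include he hal in
theorem isSimp_Q [Fact (Irreducible (X ^ e - C a : K[X]))] {r : ℕ} {β : Fin r → K} (hS : IsSimp K β B) :
    IsSimp (Q e a) (fun i => algebraMap K (Q e a) (β i)) (Q e a') := by
  classical
  have := hS.finite
  have := hS.free
  let b := Module.Free.chooseBasis K[X] B
  obtain ⟨b', hb'⟩ := exists_basis' he ha b hal
  have hfree : Module.Free (Q e a)[X] (Q e a') := Module.Free.of_basis b'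
  have hfin : Module.Finite (Q e a)[X] (Q e a') := Module.Finite.of_basis b'
  refine ⟨(FaithfulSMul.algebraMap_injective K (Q e a)).comp hS.inj, hfin, hfree, ?_⟩
  refine (discr_dvd_discr (Module.Free.chooseBasis (Q e a)[X] (Q e a')) b').trans ?_
  rw [discr_theta (mapRingHom (algebraMap K (Q e a))) (algebraMap B (Q e a'))
    (fun f => by rw [hal, coe_mapRingHom, kb_map]) b b' hb']
  refine (map_dvd (mapRingHom (algebraMap K (Q e a))) hS.disc).trans (dvd_of_eq ?_)
  rw [map_prod]
  exact Finset.prod_congr rfl fun i _ => by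
    rw [coe_mapRingHom, Polynomial.map_sub, map_X, map_C]

end Base

end K90.Hurw
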