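import Mathlib.RingTheory.DedekindDomain.AdicValuation
import Mathlib.RingTheory.DedekindDomain.Factorization

/-!
# Powers divisible by the ramification indices

In a Dedekind domain `D` with fraction field `E`, if `e` is a common multiple of the multiplicities of `p` at all
primes, then the elements `y ^ e * p ^ i` of `E` with a power divisible by `p` are divisible by `p`.
-/

set_option autoImplicit false

universe u v

open IsDedekindDomain WithZero

namespace K90.Hurw

theorem exists_star {D : Type u} [CommRing D] [IsDedekindDomain D] {E : Type v} [Field E] [Algebra D E]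
    [IsFractionRing D E] (p : D) (hp : p ≠ 0) :
    ∃ e : ℕ, e ≠ 0 ∧ ∀ (y : E) (i m : ℕ), m ≠ 0 →
      (∃ d : D, (y ^ e * algebraMap D E p ^ i) ^ m = algebraMap D E (p * d)) →
      ∃ d : D, y ^ e * algebraMap D E p ^ i = algebraMap D E (p * d) := by
  classical
  have hpE : algebraMap D E p ≠ 0 := by
    rwa [Ne, FaithfulSMul.algebraMap_eq_zero_iff]
  have hfin : {v : HeightOneSpectrum D | v.asIdeal ∣ Ideal.span {p}}.Finite :=
    Ideal.finite_factors (by rwa [Ne, Ideal.zero_eq_bot, Ideal.span_singleton_eq_bot])
  -- the multiplicities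
  let f : HeightOneSpectrum D → ℕ := fun v => (log (v.valuation E (algebraMap D E p))).natAbs
  have hv0 : ∀ v : HeightOneSpectrum D, v.valuation E (algebraMap D E p) ≠ 0 := fun v =>
    (Valuation.ne_zero_iff _).2 hpE
  have hle : ∀ v : HeightOneSpectrum D, log (v.valuation E (algebraMap D E p)) ≤ 0 := fun v => by
    have h := HeightOneSpectrum.valuation_le_one (K := E) v p
    rwa [← log_le_log (hv0 v) one_ne_zero, log_one] at h
  have hf : ∀ v : HeightOneSpectrum D, log (v.valuation E (algebraMap D E p)) = -(f v : ℤ) := fun v => by
    simp only [f]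
    have := hle v
    omega
  refine ⟨∏ v ∈ hfin.toFinset, f v, ?_, ?_⟩
  · rw [Finset.prod_ne_zero_iff]
    intro v hv h0
    rw [Set.Finite.mem_toFinset, Set.mem_ofPred_eq, ← HeightOneSpectrum.valuation_lt_one_iff_dvd (K := E),
      ← log_lt_log (hv0 v) one_ne_zero, log_one] at hv
    have := hf v
    rw [h0] at this
    rw [this] at hv
    simp at hv
  · rintro y i m hm ⟨d, hd⟩
    by_cases hx : y ^ (∏ v ∈ hfin.toFinset, f v) * algebraMap D E p ^ i = 0
    · exact ⟨0, by rw [hx, mul_zero, map_zero]⟩
    have hy : y = 0 → (∏ v ∈ hfin.toFinset, f v) = 0 := by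
      intro hy
      by_contra hne
      exact hx (by rw [hy, zero_pow hne, zero_mul])
    obtain ⟨c, hc⟩ := HeightOneSpectrum.mem_integers_of_valuation_le_one (R := D) E
      (y ^ (∏ v ∈ hfin.toFinset, f v) * algebraMap D E p ^ i / algebraMap D E p) (fun v => by
        rw [map_div₀]
        have hX0 : v.valuation E (y ^ (∏ v ∈ hfin.toFinset, f v) * algebraMap D E p ^ i) ≠ 0 :=
          (Valuation.ne_zero_iff _).2 hx
        have h1 : v.valuation E (y ^ (∏ v ∈ hfin.toFinset, f v) * algebraMap D E p ^ i) ^ m ≤
            v.valuation E (algebraMap D E p) := by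
          rw [← map_pow, hd, map_mul, map_mul]
          exact mul_le_of_le_one_right' (HeightOneSpectrum.valuation_le_one (K := E) v d)
        rw [div_le_one₀ (zero_lt_iff.2 (hv0 v)), ← log_le_log hX0 (hv0 v)]
        rw [← log_le_log (pow_ne_zero _ hX0) (hv0 v), log_pow] at h1
        rw [hf v] at h1 ⊢
        rw [map_mul, map_pow, map_pow] at h1 hX0 ⊢
        have h2 := left_ne_zero_of_mul hX0
        have h3 := right_ne_zero_of_mul hX0
        rw [log_mul h2 h3, log_pow, log_pow, hf v] at h1 ⊢
        by_cases hv : v ∈ hfin.toFinset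
        · obtain ⟨g, hg⟩ := Finset.dvd_prod_of_mem f hv
          have hfv : 0 < (f v : ℤ) := by
            have h4 : (∏ v ∈ hfin.toFinset, f v) ≠ 0 := by
              rw [Finset.prod_ne_zero_iff]
              intro v hv h0
              rw [Set.Finite.mem_toFinset, Set.mem_ofPred_eq,
                ← HeightOneSpectrum.valuation_lt_one_iff_dvd (K := E),
                ← log_lt_log (hv0 v) one_ne_zero, log_one] at hv
              have := hf v
              rw [h0] at this
              rw [this] at hv
              simp at hv
            rw [Finset.prod_ne_zero_iff] at h4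
            exact_mod_cast Nat.pos_of_ne_zero (h4 v hv)
          rw [hg] at h1 ⊢
          simp only [nsmul_eq_mul] at h1 ⊢
          push_cast at h1 ⊢
          set a := log (v.valuation E y)
          have hm' : (0 : ℤ) < m := by exact_mod_cast Nat.pos_of_ne_zero hm
          have h5 : (m : ℤ) * ((g : ℤ) * a - i) ≤ -1 := by
            have h6 : (f v : ℤ) * ((m : ℤ) * ((g : ℤ) * a - i)) ≤ (f v : ℤ) * (-1) := by linarith
            exact le_of_mul_le_mul_left h6 hfv
          have h7 : (g : ℤ) * a - i ≤ -1 := by
            by_contra h8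
            have h9 : 0 ≤ (g : ℤ) * a - i := by omega
            have := mul_nonneg hm'.le h9
            omega
          nlinarith
        · have hfv : (f v : ℤ) = 0 := by
            by_contra hne
            apply hv
            rw [Set.Finite.mem_toFinset, Set.mem_ofPred_eq,
              ← HeightOneSpectrum.valuation_lt_one_iff_dvd (K := E),
              ← log_lt_log (hv0 v) one_ne_zero, log_one, hf v]
            omega
          rw [hfv] at h1 ⊢
          simp only [nsmul_eq_mul] at h1 ⊢
          have hm' : (0 : ℤ) < m := by exact_mod_cast Nat.pos_of_ne_zero hm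
          have h1' : (m : ℤ) * ((∏ v ∈ hfin.toFinset, f v : ℕ) * log (v.valuation E y) + i * (-0)) ≤ (m : ℤ) * 0 := by
            linarith
          have := le_of_mul_le_mul_left h1' hm'
          linarith)
    refine ⟨c, ?_⟩
    rw [map_mul, hc]
    field_simp

end K90.Hurw
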