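import Groth.Agent.CurvSt.K90.SimpQ
import Groth.Agent.CurvSt.K90.Kill
import Groth.Agent.CurvSt.K90.GaussW

/-!
# Unramifiedness over the Gauss valuation after adjoining a root of the uniformizer
-/

set_option autoImplicit false

universe u

open Polynomial IsLocalRing K760.Hurw

namespace K90.Hurw

theorem isFractionRing_map {A : Type u} [CommRing A] [IsDomain A] {L : Type u} [Field L] [Algebra A L]
    [IsFractionRing A L] {e : ℕ} (he : e ≠ 0) {a : A} {a' : L} (h : algebraMap A L a = a')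
    [Fact (Irreducible (X ^ e - C a' : L[X]))] [Algebra (Q e a) (Q e a')]
    (hal : ∀ x, algebraMap (Q e a) (Q e a') x = Q.map (algebraMap A L) h x) : IsFractionRing (Q e a) (Q e a') := by
  have hinj : Function.Injective (algebraMap (Q e a) (Q e a')) := by
    intro x y hxy
    rw [hal, hal] at hxy
    exact Q.map_injective _ h he (IsFractionRing.injective A L) hxy
  have : FaithfulSMul (Q e a) (Q e a') := (faithfulSMul_iff_algebraMap_injective _ _).2 hinj
  refine IsFractionRing.of_field _ _ fun z => ?_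
  obtain ⟨x, s, hs, hx⟩ := Q.exists_frac he a h z
  refine ⟨x, algebraMap A (Q e a) s, ?_⟩
  rw [hal, hal, hx, Q.map_algebraMap]
  have hne : algebraMap L (Q e a') (algebraMap A L s) ≠ 0 := by
    rw [Ne, FaithfulSMul.algebraMap_eq_zero_iff, FaithfulSMul.algebraMap_eq_zero_iff]
    exact hs
  rw [mul_div_assoc, mul_comm, div_mul_cancel₀ _ hne]

section Rx

variable {R : Type u} [CommRing R] {K : Type u} [Field K] [Algebra R K] {B : Type u} [CommRing B] [Algebra K[X] B]
  {ϖ : R} {e : ℕ} (he : e ≠ 0) {a : K} (haK : algebraMap R K ϖ = a) {a' : B} (haB : algebraMap K[X] B (C a) = a')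
  [Fact (Irreducible (X ^ e - C a : K[X]))] [Algebra (Q e ϖ) (Q e a)]
  (hal1 : ∀ x, algebraMap (Q e ϖ) (Q e a) x = Q.map (algebraMap R K) haK x)
  [Algebra (Q e a)[X] (Q e a')] (hal : ∀ f : (Q e a)[X], algebraMap _ (Q e a') f = kb haB f)

include hal1 hal

theorem rx_map (g : R[X]) : rx (Q e ϖ) (Q e a) (Q e a') (g.map (algebraMap R (Q e ϖ))) =
    algebraMap B (Q e a') (rx R K B g) := by
  have h1 : (g.map (algebraMap R (Q e ϖ))).map (algebraMap (Q e ϖ) (Q e a)) =
      (g.map (algebraMap R K)).map (algebraMap K (Q e a)) := by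
    rw [Polynomial.map_map, Polynomial.map_map]
    congr 1
    ext c
    rw [RingHom.comp_apply, hal1, RingHom.comp_apply]
    exact Q.map_algebraMap _ _ _
  rw [rx, RingHom.comp_apply, coe_mapRingHom, h1, hal, kb_map]
  rfl

theorem rx_T : rx (Q e ϖ) (Q e a) (Q e a') (C (Q.T e ϖ)) = Q.T e a' := by
  rw [rx, RingHom.comp_apply, coe_mapRingHom, map_C, hal1, Q.map_T, hal, kb_T]

end Rx

section Unr

variable {R : Type u} [CommRing R] [IsDomain R] [IsDiscreteValuationRing R] {K : Type u} [Field K] [Algebra R K]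
  {B : Type u} [CommRing B] [Algebra K[X] B] {E : Type u} [Field E] [Algebra B E] [FaithfulSMul B E]
  {ϖ : R} (hϖ : Irreducible ϖ) {e : ℕ} (he : e ≠ 0)
  {a : K} (haK : algebraMap R K ϖ = a) {a' : B} (haB : algebraMap K[X] B (C a) = a')
  {a'' : E} (haE : algebraMap B E a' = a'')
  (f : R[X] →+* E) (hf : Function.Injective f) (hfB : ∀ g, f g = algebraMap B E (rx R K B g))
  [Fact (Irreducible (X ^ e - C a : K[X]))] [Algebra (Q e ϖ) (Q e a)]
  (hal1 : ∀ x, algebraMap (Q e ϖ) (Q e a) x = Q.map (algebraMap R K) haK x)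
  [Algebra (Q e a)[X] (Q e a')] (hal : ∀ f : (Q e a)[X], algebraMap _ (Q e a') f = kb haB f)

include hϖ he haE hfB hal1 hal in
theorem unr_Q [IsLocalRing (Q e ϖ)] [Nontrivial B] (heR : IsUnit (e : R)) {ζ : R} (hζ1 : ζ ^ e = 1)
    (hζ : ∀ l : ℕ, ¬ e ∣ l → ∑ j ∈ Finset.range e, (ζ ^ l) ^ j = 0)
    (star : ∀ (y : E) (i m : ℕ), m ≠ 0 →
      (∃ d : E, (wE f hf).IsIntegralElem d ∧ (y ^ e * f (C ϖ) ^ i) ^ m = f (C ϖ) * d) →
      ∃ d : E, (wE f hf).IsIntegralElem d ∧ y ^ e * f (C ϖ) ^ i = f (C ϖ) * d) :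
    Unr (Q e ϖ) (Q e a) (Q e a') (Q.T e ϖ) := by
  intro z w g hz hw hg hgz
  -- the ring homomorphisms
  let θ : Q e a' →+* Q e a'' := Q.map (algebraMap B E) haE
  have hθ : Function.Injective θ := Q.map_injective _ _ he (FaithfulSMul.algebraMap_injective B E)
  let rx' := rx (Q e ϖ) (Q e a) (Q e a')
  let jj : R[X] →+* (Q e ϖ)[X] := mapRingHom (algebraMap R (Q e ϖ))
  let _ : Algebra R[X] E := f.toAlgebra
  let _ : Algebra (GW R) E := (wE f hf).toAlgebra
  have : IsScalarTower R[X] (GW R) E := IsScalarTower.of_algebraMap_eq fun x => (wE_apply f hf x).symm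
  let _ : Algebra R[X] (Q e ϖ)[X] := jj.toAlgebra
  let _ : Algebra (Q e ϖ)[X] (Q e a'') := (θ.comp rx').toAlgebra
  have hjj : ∀ g : R[X], θ (rx' (jj g)) = algebraMap E (Q e a'') (f g) := fun g => by
    have h1 : rx' (jj g) = algebraMap B (Q e a') (rx R K B g) := rx_map haK haB hal1 hal g
    rw [h1, hfB]
    exact Q.map_algebraMap _ _ _
  have hθT : θ (Q.T e a') = Q.T e a'' := Q.map_T _ _
  have hfa : f (C ϖ) = a'' := by
    have h1 : rx R K B (C ϖ) = a' := by
      rw [rx, RingHom.comp_apply, coe_mapRingHom, map_C, haK, haB]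
    rw [hfB, h1, haE]
  have htow : IsScalarTower R[X] (Q e ϖ)[X] (Q e a'') := IsScalarTower.of_algebraMap_eq fun x => by
    rw [IsScalarTower.algebraMap_apply R[X] E (Q e a'')]
    exact (hjj x).symm
  have hTint : IsIntegral R[X] (C (Q.T e ϖ)) := by
    refine IsIntegral.of_pow (Nat.pos_of_ne_zero he) ?_
    have h1 : (C (Q.T e ϖ)) ^ e = algebraMap R[X] (Q e ϖ)[X] (C ϖ) := by
      rw [← C_pow, Q.T_pow]
      exact (map_C (algebraMap R (Q e ϖ))).symm
    rw [h1]
    exact isIntegral_algebraMap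
  have hint : Algebra.IsIntegral R[X] (Q e ϖ)[X] := ⟨fun x => by
    obtain ⟨c, hc⟩ := exists_decomp he x
    rw [hc]
    exact IsIntegral.sum _ fun j _ => (isIntegral_algebraMap (x := c j)).mul (hTint.pow _)⟩
  have hup : ∀ x : Q e a', rx'.IsIntegralElem x → IsIntegral R[X] (θ x) := fun x ⟨q, hq, hqx⟩ => by
    refine isIntegral_trans (A := (Q e ϖ)[X]) _ ⟨q, hq, ?_⟩
    have h1 := congrArg θ hqx
    rwa [hom_eval₂, map_zero] at h1
  have hdown : ∀ x : Q e a', IsIntegral R[X] (θ x) → rx'.IsIntegralElem x := fun x hx => by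
    obtain ⟨q, hq, hqx⟩ := hx.tower_top (A := (Q e ϖ)[X])
    refine ⟨q, hq, hθ ?_⟩
    rw [hom_eval₂, map_zero]
    exact hqx
  -- residues
  have hloc := Q.isLocalHom hϖ he
  have hres : ∀ h : R[X], h ∉ gp R → (jj h).map (residue (Q e ϖ)) ≠ 0 := by
    intro h hh h0
    apply hh
    rw [mem_gp]
    ext n
    rw [coeff_map, coeff_zero, residue_eq_zero_iff, mem_maximalIdeal]
    intro hu
    have h1 : residue (Q e ϖ) (algebraMap R (Q e ϖ) (h.coeff n)) = 0 := by
      have h2 := congrArg (fun q : (ResidueField (Q e ϖ))[X] => q.coeff n) h0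
      simpa [jj, coeff_map] using h2
    rw [residue_eq_zero_iff, mem_maximalIdeal] at h1
    exact h1 (hu.map _)
  have hresT : residue (Q e ϖ) (Q.T e ϖ) = 0 := by
    rw [residue_eq_zero_iff, Q.maximalIdeal_eq hϖ he]
    exact Ideal.mem_span_singleton_self _
  -- `g` is a unit
  obtain ⟨v, hv, hgv⟩ : ∃ v : Q e a'', IsIntegral (GW R) v ∧ θ (rx' g) * v = 1 := by
    obtain ⟨c, hc⟩ := exists_decomp he g
    let i0 : Fin e := ⟨0, Nat.pos_of_ne_zero he⟩
    have hc0 : c i0 ∉ gp R := by
      intro h0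
      apply hg
      rw [hc, Polynomial.map_sum]
      refine Finset.sum_eq_zero fun j _ => ?_
      rw [Polynomial.map_mul, Polynomial.map_pow, map_C, hresT, C_0]
      by_cases hj : (j : ℕ) = 0
      · have hj' : j = i0 := Fin.ext hj
        have h1 : ((c i0).map (algebraMap R (Q e ϖ))).map (residue (Q e ϖ)) = 0 := by
          ext n
          rw [coeff_map, coeff_map, coeff_zero, residue_eq_zero_iff, mem_maximalIdeal]
          intro hu
          have h2 : residue R ((c i0).coeff n) = 0 := by rw [← coeff_map, mem_gp.1 h0, coeff_zero]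
          rw [residue_eq_zero_iff, mem_maximalIdeal] at h2
          exact h2 (hloc.map_nonunit _ hu)
        rw [hj', h1, zero_mul]
      · rw [zero_pow hj, mul_zero]
    have hGint : IsIntegral (GW R) (θ (rx' g)) :=
      (show IsIntegral R[X] (algebraMap (Q e ϖ)[X] (Q e a'') g) from
        (hint.isIntegral g).algebraMap).tower_top
    have hp' : algebraMap (GW R) E (algebraMap R[X] (GW R) (C ϖ)) = a'' := by
      rw [← hfa]; exact wE_apply f hf _
    let D := integralClosure (GW R) (Q e a'')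
    let G : D := ⟨θ (rx' g), hGint⟩
    let t : D := ⟨Q.T e a'', Q.isIntegral_T he hp'⟩
    have hG : G = ∑ j : Fin e, algebraMap (GW R) D (algebraMap R[X] (GW R) (c j)) * t ^ (j : ℕ) := by
      apply Subtype.ext
      rw [AddSubmonoidClass.coe_finsetSum]
      change θ (rx' g) = _
      conv_lhs => rw [hc, map_sum, map_sum]
      refine Finset.sum_congr rfl fun j _ => ?_
      have h1 : rx' (C (Q.T e ϖ)) = Q.T e a' := rx_T haK haB hal1 hal
      rw [map_mul, map_mul, map_pow, map_pow, h1, hθT]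
      change θ (rx' (jj (c j))) * _ = _
      rw [hjj, MulMemClass.coe_mul, SubmonoidClass.coe_pow]
      congr 1
      change _ = algebraMap (GW R) (Q e a'') (algebraMap R[X] (GW R) (c j))
      rw [IsScalarTower.algebraMap_apply (GW R) E (Q e a'')]
      congr 1
      exact (wE_apply f hf _).symm
    have hGu : IsUnit G := by
      by_contra hn
      obtain ⟨M, hM, hGM⟩ := exists_max_ideal_of_mem_nonunits hn
      have h1 : (M.comap (algebraMap (GW R) D)).IsMaximal := Ideal.isMaximal_comap_of_isIntegral_of_isMaximal M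
      have h2 : algebraMap (GW R) D (algebraMap R[X] (GW R) (C ϖ)) ∈ M := by
        change algebraMap R[X] (GW R) (C ϖ) ∈ M.comap (algebraMap (GW R) D)
        rw [eq_maximalIdeal h1]
        refine (IsLocalization.AtPrime.to_map_mem_maximal_iff (GW R) (gp R) (C ϖ)).2 ?_
        rw [gp_eq hϖ]
        exact Ideal.mem_span_singleton_self _
      have h3 : t ^ e = algebraMap (GW R) D (algebraMap R[X] (GW R) (C ϖ)) := by
        apply Subtype.ext
        rw [SubmonoidClass.coe_pow]
        change Q.T e a'' ^ e = algebraMap (GW R) (Q e a'') (algebraMap R[X] (GW R) (C ϖ))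
        rw [Q.T_pow, IsScalarTower.algebraMap_apply (GW R) E (Q e a''), hp']
      have ht : t ∈ M := hM.isPrime.mem_of_pow_mem e (by rw [h3]; exact h2)
      have h4 : algebraMap (GW R) D (algebraMap R[X] (GW R) (c i0)) ∈ M := by
        have h5 := hGM
        rw [hG, ← Finset.add_sum_erase _ _ (Finset.mem_univ i0)] at h5
        have h6 : ∑ j ∈ Finset.univ.erase i0, algebraMap (GW R) D (algebraMap R[X] (GW R) (c j)) * t ^ (j : ℕ) ∈
            M := by
          refine sum_mem fun j hj => M.mul_mem_left _ (M.pow_mem_of_mem ht _ ?_)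
          rw [Finset.mem_erase] at hj
          exact Nat.pos_of_ne_zero fun h0 => hj.1 (Fin.ext h0)
        have h7 := (Submodule.add_mem_iff_left M h6).1 h5
        simpa [i0] using h7
      exact hM.ne_top (Ideal.eq_top_of_isUnit_mem _ h4
        ((IsLocalization.map_units (GW R) (⟨c i0, hc0⟩ : (gp R).primeCompl)).map (algebraMap (GW R) D)))
    obtain ⟨v, hv⟩ := hGu.exists_right_inv
    exact ⟨v, v.2, congrArg Subtype.val hv⟩
  have hgz' : θ (rx' g) * θ z ^ 2 = Q.T e a'' * θ w := by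
    have h1 : rx' (C (Q.T e ϖ)) = Q.T e a' := rx_T haK haB hal1 hal
    have h2 := congrArg θ hgz
    change θ (rx' g * z ^ 2) = θ (rx' (C (Q.T e ϖ)) * w) at h2
    rwa [h1, map_mul, map_mul, map_pow, hθT] at h2
  have ha''0 : a'' ≠ 0 := by
    rw [← hfa, Ne, map_eq_zero_iff f hf, C_eq_zero]
    exact hϖ.ne_zero
  obtain ⟨y, hy, hy'⟩ := Q.kill (W := GW R) (E := E) he (p := algebraMap R[X] (GW R) (C ϖ)) (p' := a'')
    (by rw [← hfa]; exact wE_apply f hf _) ha''0
    (ζ := algebraMap R[X] (GW R) (C ζ)) (by rw [← map_pow, ← C_pow, hζ1, C_1, map_one])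
    (fun l hl => by
      have h1 := congrArg (fun x => algebraMap R[X] (GW R) (C x)) (hζ l hl)
      simpa [map_sum, map_pow] using h1)
    (by
      have h1 := (heR.map (C : R →+* R[X])).map (algebraMap R[X] (GW R))
      simpa using h1)
    (fun y i m hm h => by
      have h1 := star y i m hm
      rw [hfa] at h1
      exact h1 h) (θ z) (hup z hz).tower_top 2 (θ w * v) ((hup w hw).tower_top.mul hv) (by
        calc θ z ^ 2 = (θ (rx' g) * θ z ^ 2) * v := by rw [mul_right_comm, hgv, one_mul]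
          _ = _ := by rw [hgz']; ring)
  obtain ⟨⟨h, hh⟩, hhy⟩ := IsIntegral.exists_multiple_integral_of_isLocalization (gp R).primeCompl y hy
  have ha0 : a ≠ 0 := by
    rintro rfl
    apply ha''0
    rw [← haE, ← haB, C_0, map_zero, map_zero]
  obtain ⟨s, hs⟩ : ∃ s : Q e a', Q.T e a' * s = 1 := by
    obtain ⟨n, rfl⟩ := Nat.exists_eq_succ_of_ne_zero he
    refine ⟨Q.T _ _ ^ n * algebraMap B _ (algebraMap K[X] B (C a⁻¹)), ?_⟩
    rw [← mul_assoc, ← pow_succ', Q.T_pow, ← map_mul, ← haB, ← map_mul, ← C_mul, mul_inv_cancel₀ ha0, C_1,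
      map_one, map_one]
  have hs' : Q.T e a'' * θ s = 1 := by rw [← hθT, ← map_mul, hs, map_one]
  refine ⟨rx' (jj h) * (z * s), jj h, hdown _ ?_, hres h hh, ?_⟩
  · have h1 : θ (rx' (jj h) * (z * s)) = h • y := by
      rw [map_mul, map_mul, hjj, hy', Algebra.smul_def, IsScalarTower.algebraMap_apply R[X] E (Q e a'')]
      change algebraMap E (Q e a'') (f h) * _ = algebraMap E (Q e a'') (f h) * _
      rw [mul_right_comm, hs', one_mul]
    rw [h1]
    exact hhy
  · have h1 : rx' (C (Q.T e ϖ)) = Q.T e a' := rx_T haK haB hal1 hal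
    change rx' (jj h) * z = rx' (C (Q.T e ϖ)) * _
    rw [h1]
    calc rx' (jj h) * z = rx' (jj h) * z * (Q.T e a' * s) := by rw [hs, mul_one]
      _ = _ := by ring

end Unr

end K90.Hurw
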